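import Groth.Agent.Lib.Helper5.TFin.Coprod
import Groth.Prelude.Def_ToposFin2

open CategoryTheory CategoryTheory.Limits Opposite

set_option linter.unusedSectionVars false

namespace Helper5.TFin

universe u w w'

variable {C : Type u} [SmallCategory C] {J : GrothendieckTopology C}

open ToposFin (Sh IsQC IsQCHom IsQSHom IsQS IsCohHom IsCoherent HasQCGenerators IsGenerating
  ClosedUnderPullbacks ClosedUnderEqualizers IsAlgebraic)

lemma isGenerating_iff (S : Set (Sh J)) : IsGenerating S ↔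
    ∀ X : Sh J, ∃ (ι : Type u) (F : ι → Sh J) (π : ∀ i, F i ⟶ X), (∀ i, F i ∈ S) ∧ JE π := by
  constructor
  · intro h X
    obtain ⟨ι, F, π, hF, hπ⟩ := h X
    exact ⟨ι, F, π, hF, fun Z a b hab => hπ Z a b hab⟩
  · intro h X
    obtain ⟨ι, F, π, hF, hπ⟩ := h X
    exact ⟨ι, F, π, hF, fun Z a b hab => hπ a b hab⟩

section Gen

variable {S : Set (Sh J)} (hqc : ∀ K ∈ S, IsQC K) (hgen : IsGenerating S)

include hqc hgen in
lemma hasQCGenerators_of_isGenerating : HasQCGenerators J := by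
  rw [hasQCGenerators_iff]
  intro X
  obtain ⟨ι, F, π, hF, hπ⟩ := (isGenerating_iff S).1 hgen X
  exact ⟨ι, F, π, fun i => hqc _ (hF i), hπ⟩

include hqc hgen in
/-- a quasi-compact object is covered by finitely many generators -/
lemma exists_finite_gen_cover {T : Sh J} (hT : IsQC T) :
    ∃ (ι : Type u) (F : ι → Sh J) (π : ∀ i, F i ⟶ T) (s : Finset ι), (∀ i, F i ∈ S) ∧
      JE (fun i : s => π i) := by
  obtain ⟨ι, F, π, hF, hπ⟩ := (isGenerating_iff S).1 hgen T
  obtain ⟨s, hs⟩ := exists_finset_of_isQC hT π hπ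
  exact ⟨ι, F, π, s, hF, hs⟩

include hqc hgen in
theorem isQCHom_iff_of_genSet {X Y : Sh J} (f : X ⟶ Y) :
    IsQCHom f ↔ ∀ K ∈ S, ∀ s : K ⟶ Y, IsQC (pullback f s) := by
  constructor
  · intro h K hK s
    exact h K s (hqc K hK)
  · intro h T t hT
    obtain ⟨ι, F, π, s, hF, hs⟩ := exists_finite_gen_cover hqc hgen hT
    exact isQC_pullback_of_finite_cover f t (fun i : s => π i) hs (fun i => h _ (hF i) _)

include hqc hgen in
theorem isQS_iff_of_genSet (Y : Sh J) :
    IsQS Y ↔ ∀ K ∈ S, ∀ s : K ⟶ Y, IsQCHom s := by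
  constructor
  · intro hY K hK s
    exact isQCHom_of_isQC_of_isQS s (hqc K hK) hY
  · intro h A B a b hA hB
    obtain ⟨ι, F, π, s, hF, hs⟩ := exists_finite_gen_cover hqc hgen hA
    exact isQC_pullback_of_finite_cover_left a b (fun i : s => π i) hs
      (fun i => h _ (hF i) (π i ≫ a) B b hB)

include hqc hgen in
theorem isQS_iff_of_genSet' (Y : Sh J) :
    IsQS Y ↔ ∀ K ∈ S, ∀ K' ∈ S, ∀ (s : K ⟶ Y) (s' : K' ⟶ Y), IsQC (pullback s s') := by
  rw [isQS_iff_of_genSet hqc hgen]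
  constructor
  · intro h K hK K' hK' s s'
    exact h K hK s K' s' (hqc K' hK')
  · intro h K hK s
    rw [isQCHom_iff_of_genSet hqc hgen]
    intro K' hK' s'
    exact h K hK K' hK' s s'

include hqc hgen in
/-- in a locally coherent topos the generators are coherent -/
theorem isCoherent_of_mem (hpb : ClosedUnderPullbacks S) {K : Sh J} (hK : K ∈ S) :
    IsCoherent K := by
  refine ⟨hqc K hK, ?_⟩
  rw [isQS_iff_of_genSet' hqc hgen]
  intro L hL L' hL' s s'
  obtain ⟨P, p, q, hP, sq⟩ := hpb s s' hL hL' hK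
  exact isQC_of_iso sq.isoPullback (hqc P hP)

include hqc hgen in
/-- a morphism from a quasi-separated object to a generator of a locally coherent topos is
quasi-separated -/
theorem isQSHom_of_isQS_of_mem (hpb : ClosedUnderPullbacks S) {X K : Sh J} (hK : K ∈ S)
    (f : X ⟶ K) (hX : IsQS X) : IsQSHom f := by
  have hE := hasQCGenerators_of_isGenerating hqc hgen
  obtain ⟨ι, F, π, hF, hπ⟩ := (isGenerating_iff S).1 hgen X
  refine isQSHom_of_cover_with_qs_products hE f F π hπ (fun i => hqc _ (hF i)) (fun i j => ?_) hX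
  obtain ⟨P, p, q, hP, sq⟩ := hpb (π i ≫ f) (π j ≫ f) (hF i) (hF j) hK
  have hP' : IsQS P := (isCoherent_of_mem hqc hgen hpb hP).2
  exact isQS_of_isQSHom sq.isoPullback.inv (isQSHom_of_mono _) hP'

/-- the fibre product over `K ×_Y K'` as an equalizer -/
lemma isPullback_of_equalizer {K K' Y L L' Q E : Sh J} (a : K ⟶ Y) (b : K' ⟶ Y)
    (s : L ⟶ pullback a b) (s' : L' ⟶ pullback a b) (q₁ : Q ⟶ L) (q₂ : Q ⟶ L')
    (sq : IsPullback q₁ q₂ (s ≫ pullback.fst a b) (s' ≫ pullback.fst a b))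
    (e : E ⟶ Q) (w : e ≫ (q₁ ≫ s ≫ pullback.snd a b) = e ≫ (q₂ ≫ s' ≫ pullback.snd a b))
    (hl : IsLimit (Fork.ofι e w)) : IsPullback (e ≫ q₁) (e ≫ q₂) s s' := by
  have hcomm : (e ≫ q₁) ≫ s = (e ≫ q₂) ≫ s' := by
    apply pullback.hom_ext
    · simp only [Category.assoc]
      rw [sq.w]
    · simp only [Category.assoc]
      exact w
  have hmono : Mono e := mono_of_isLimit_fork hl
  have hlift : ∀ {T : Sh J} (k : T ⟶ Q) (hk : k ≫ (q₁ ≫ s ≫ pullback.snd a b) =
      k ≫ (q₂ ≫ s' ≫ pullback.snd a b)), Fork.IsLimit.lift hl k hk ≫ e = k :=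
    fun k hk => Fork.IsLimit.lift_ι hl
  refine ⟨⟨hcomm⟩, ⟨PullbackCone.IsLimit.mk _ (fun c => Fork.IsLimit.lift hl
    (sq.lift c.fst c.snd (by rw [← Category.assoc, c.condition, Category.assoc])) ?_) ?_ ?_ ?_⟩⟩
  · rw [sq.lift_fst_assoc, sq.lift_snd_assoc, ← Category.assoc, c.condition, Category.assoc]
  · intro c
    rw [← Category.assoc, hlift, sq.lift_fst]
  · intro c
    rw [← Category.assoc, hlift, sq.lift_snd]
  · intro c m hm1 hm2
    rw [← cancel_mono e]
    apply sq.hom_ext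
    · rw [Category.assoc, hm1, hlift, sq.lift_fst]
    · rw [Category.assoc, hm2, hlift, sq.lift_snd]

include hqc hgen in
/-- in an algebraic topos, fibre products of generators (over anything) are quasi-separated -/
theorem isQS_pullback_of_mem (hpb : ClosedUnderPullbacks S) (heq : ClosedUnderEqualizers S)
    {K K' Y : Sh J} (hK : K ∈ S) (hK' : K' ∈ S) (a : K ⟶ Y) (b : K' ⟶ Y) :
    IsQS (pullback a b) := by
  rw [isQS_iff_of_genSet' hqc hgen]
  intro L hL L' hL' s s'
  obtain ⟨Q, q₁, q₂, hQ, sq⟩ := hpb (s ≫ pullback.fst a b) (s' ≫ pullback.fst a b) hL hL' hK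
  obtain ⟨E, e, w, hE, ⟨hl⟩⟩ := heq (q₁ ≫ s ≫ pullback.snd a b) (q₂ ≫ s' ≫ pullback.snd a b)
    hQ hK'
  exact isQC_of_iso (isPullback_of_equalizer a b s s' q₁ q₂ sq e w hl).isoPullback (hqc E hE)

include hqc hgen in
/-- in an algebraic topos every morphism with quasi-separated source is quasi-separated -/
theorem isQSHom_of_isQS_source (hpb : ClosedUnderPullbacks S) (heq : ClosedUnderEqualizers S)
    {X Y : Sh J} (f : X ⟶ Y) (hX : IsQS X) : IsQSHom f := by
  have hE := hasQCGenerators_of_isGenerating hqc hgen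
  obtain ⟨ι, F, π, hF, hπ⟩ := (isGenerating_iff S).1 hgen X
  exact isQSHom_of_cover_with_qs_products hE f F π hπ (fun i => hqc _ (hF i))
    (fun i j => isQS_pullback_of_mem hqc hgen hpb heq (hF i) (hF j) _ _) hX

end Gen

end Helper5.TFin
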