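import Groth.Prelude.Def_SGA4c
import Mathlib.CategoryTheory.Sites.LocallySurjective
import Mathlib.CategoryTheory.Sites.Subsheaf
import Mathlib.CategoryTheory.Limits.Types.Pullbacks
import Mathlib.CategoryTheory.Limits.Shapes.Pullback.IsPullback.Basic
import Mathlib.CategoryTheory.Limits.Preserves.Shapes.Pullbacks

open CategoryTheory CategoryTheory.Limits Opposite

set_option linter.unusedSectionVars false

namespace Helper5.TFin

universe u w

variable {C : Type u} [SmallCategory C] {J : GrothendieckTopology C}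

open ToposFin (Sh)

/-- sections over `V` as a functor -/
noncomputable abbrev secF (J : GrothendieckTopology C) (V : Cᵒᵖ) : Sh J ⥤ Type u :=
  sheafToPresheaf J (Type u) ⋙ (evaluation Cᵒᵖ (Type u)).obj V

lemma exists_section_of_isPullback {P A Y X : Sh J} {p₁ : P ⟶ A} {p₂ : P ⟶ Y} {f : A ⟶ X}
    {g : Y ⟶ X} (sq : IsPullback p₁ p₂ f g) (V : Cᵒᵖ) (a : A.obj.obj V) (y : Y.obj.obj V)
    (h : f.hom.app V a = g.hom.app V y) :
    ∃ p : P.obj.obj V, p₁.hom.app V p = a ∧ p₂.hom.app V p = y := by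
  have sq' := sq.map (secF J V)
  let e := PullbackCone.IsLimit.equivPullbackObj sq'.isLimit
  refine ⟨e.symm ⟨(a, y), h⟩, ?_, ?_⟩
  · exact PullbackCone.IsLimit.equivPullbackObj_symm_apply_fst sq'.isLimit ⟨(a, y), h⟩
  · exact PullbackCone.IsLimit.equivPullbackObj_symm_apply_snd sq'.isLimit ⟨(a, y), h⟩

lemma section_ext_of_isPullback {P A Y X : Sh J} {p₁ : P ⟶ A} {p₂ : P ⟶ Y} {f : A ⟶ X}
    {g : Y ⟶ X} (sq : IsPullback p₁ p₂ f g) (V : Cᵒᵖ) (p p' : P.obj.obj V)
    (h₁ : p₁.hom.app V p = p₁.hom.app V p') (h₂ : p₂.hom.app V p = p₂.hom.app V p') : p = p' := by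
  have sq' := sq.map (secF J V)
  exact PullbackCone.IsLimit.type_ext sq'.isLimit h₁ h₂

end Helper5.TFin
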