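import Groth.Agent.Lib.Helper5.TFin.Epi
import Groth.Agent.Lib.Helper5.TFin.Pb

open CategoryTheory CategoryTheory.Limits Opposite

set_option linter.unusedSectionVars false

namespace Helper5.TFin

universe u w w'

variable {C : Type u} [SmallCategory C] {J : GrothendieckTopology C}

open ToposFin (Sh IsQC IsQCHom IsQSHom IsQS IsCohHom IsCoherent)

/-- jointly epimorphic families are stable under base change -/
lemma JE.pullback {ι : Type w} {X Y : Sh J} {F : ι → Sh J} {π : ∀ i, F i ⟶ X} (h : JE π)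
    (g : Y ⟶ X) (P : ι → Sh J) (p₁ : ∀ i, P i ⟶ F i) (p₂ : ∀ i, P i ⟶ Y)
    (sq : ∀ i, IsPullback (p₁ i) (p₂ i) (π i) g) : JE p₂ := by
  rw [je_iff_jls] at h ⊢
  intro U y
  refine J.superset_covering ?_ (h U (g.hom.app (op U) y))
  rintro V f ⟨i, t, ht⟩
  have h2 : (π i).hom.app (op V) t = g.hom.app (op V) (Y.obj.map f.op y) := by
    rw [ht, NatTrans.naturality_apply]
  obtain ⟨p, -, hp⟩ := exists_section_of_isPullback (sq i) (op V) t _ h2
  exact ⟨i, p, hp⟩

lemma JE.pullback' {ι : Type w} {X Y : Sh J} {F : ι → Sh J} {π : ∀ i, F i ⟶ X} (h : JE π)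
    (g : Y ⟶ X) : JE (fun i => pullback.snd (π i) g) :=
  h.pullback g _ _ _ (fun i => IsPullback.of_hasPullback (π i) g)

lemma JE.comp {ι : Type w} {κ : ι → Type w'} {X : Sh J} {F : ι → Sh J} {π : ∀ i, F i ⟶ X}
    (h : JE π) {G : ∀ i, κ i → Sh J} (ρ : ∀ i (j : κ i), G i j ⟶ F i) (h' : ∀ i, JE (ρ i)) :
    JE (fun x : Σ i, κ i => ρ x.1 x.2 ≫ π x.1) := by
  intro Z a b hab
  apply h
  intro i
  apply h' i
  intro j
  have := hab ⟨i, j⟩
  simpa using this

lemma JE.of_factor {ι : Type w} {ι' : Type w'} {X : Sh J} {F : ι → Sh J} {π : ∀ i, F i ⟶ X}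
    (h : JE π) {F' : ι' → Sh J} (π' : ∀ i, F' i ⟶ X) (σ : ι → ι') (φ : ∀ i, F i ⟶ F' (σ i))
    (hφ : ∀ i, φ i ≫ π' (σ i) = π i) : JE π' := by
  intro Z a b hab
  apply h
  intro i
  rw [← hφ i, Category.assoc, hab, Category.assoc]

lemma JE.of_epi {X Y : Sh J} (f : X ⟶ Y) [Epi f] : JE (fun _ : PUnit.{w + 1} => f) := by
  intro Z a b hab
  rw [← cancel_epi f]
  exact hab PUnit.unit

lemma epi_of_JE_punit {X Y : Sh J} (f : X ⟶ Y) (h : JE (fun _ : PUnit.{w + 1} => f)) : Epi f :=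
  ⟨fun a b hab => h a b (fun _ => hab)⟩

/-- postcomposing a jointly epi family with an epi -/
lemma JE.comp_epi {ι : Type w} {X Y : Sh J} {F : ι → Sh J} {π : ∀ i, F i ⟶ X} (h : JE π)
    (p : X ⟶ Y) [Epi p] : JE (fun i => π i ≫ p) := by
  intro Z a b hab
  rw [← cancel_epi p]
  apply h
  intro i
  simpa using hab i

lemma JE.reindex {ι : Type w} {ι' : Type w'} {X : Sh J} {F : ι → Sh J} {π : ∀ i, F i ⟶ X}
    (h : JE π) (e : ι' → ι) (he : Function.Surjective e) : JE (fun i' => π (e i')) := by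
  intro Z a b hab
  apply h
  intro i
  obtain ⟨i', rfl⟩ := he i
  exact hab i'

lemma isQC_iff (X : Sh J) : IsQC X ↔ ∀ (ι : Type u) (F : ι → Sh J) (π : ∀ i, F i ⟶ X), JE π →
    ∃ s : Finset ι, JE (fun i : s => π i) := by
  constructor
  · intro h ι F π hπ
    obtain ⟨s, hs⟩ := h ι F π ((epi_sigmaDesc_iff π).2 hπ)
    exact ⟨s, (epi_sigmaDesc_iff _).1 hs⟩
  · intro h ι F π hπ
    obtain ⟨s, hs⟩ := h ι F π ((epi_sigmaDesc_iff π).1 hπ)
    exact ⟨s, (epi_sigmaDesc_iff _).2 hs⟩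

lemma isQC_of_iso {X X' : Sh J} (e : X ≅ X') (h : IsQC X) : IsQC X' := by
  rw [isQC_iff] at h ⊢
  intro ι F π hπ
  have h1 : JE (fun i => π i ≫ e.inv) := hπ.comp_epi e.inv
  obtain ⟨s, hs⟩ := h ι F _ h1
  refine ⟨s, ?_⟩
  have := hs.comp_epi e.hom
  simpa using this

/-- a jointly epi family over a quasi-compact object, indexed by any type, has a finite jointly
epi subfamily (given as a finite set of indices) -/
lemma exists_finset_of_isQC {X : Sh J} (h : IsQC X) {ι : Type u} {F : ι → Sh J} (π : ∀ i, F i ⟶ X)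
    (hπ : JE π) : ∃ s : Finset ι, JE (fun i : s => π i) :=
  (isQC_iff X).1 h ι F π hπ

/-- the image of a quasi-compact object is quasi-compact -/
lemma isQC_of_epi {X Y : Sh J} (p : X ⟶ Y) [Epi p] (h : IsQC X) : IsQC Y := by
  rw [isQC_iff]
  intro ι F π hπ
  have h1 : JE (fun i => pullback.snd (π i) p) := hπ.pullback' p
  obtain ⟨s, hs⟩ := exists_finset_of_isQC h _ h1
  refine ⟨s, ?_⟩
  have h2 := hs.comp_epi p
  exact h2.of_factor (fun i : s => π i) id (fun i => pullback.fst (π i) p)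
    (fun i => pullback.condition)

/-- a finite (more generally: finitely many relevant) union of quasi-compacts is quasi-compact -/
lemma isQC_of_finite_JE {κ : Type w} [Finite κ] {X : Sh J} {G : κ → Sh J} (ρ : ∀ k, G k ⟶ X)
    (hρ : JE ρ) (hG : ∀ k, IsQC (G k)) : IsQC X := by
  classical
  rw [isQC_iff]
  intro ι F π hπ
  have h1 : ∀ k, ∃ s : Finset ι, JE (fun i : s => pullback.snd (π i) (ρ k)) := fun k =>
    exists_finset_of_isQC (hG k) _ (hπ.pullback' (ρ k))
  choose s hs using h1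
  have := Fintype.ofFinite κ
  refine ⟨Finset.univ.biUnion s, ?_⟩
  have h2 := hρ.comp (fun k (i : s k) => pullback.snd (π i) (ρ k)) hs
  refine h2.of_factor (fun i : (Finset.univ.biUnion s : Finset ι) => π i)
    (fun x => ⟨x.2.1, Finset.mem_biUnion.2 ⟨x.1, Finset.mem_univ _, x.2.2⟩⟩)
    (fun x => pullback.fst (π x.2) (ρ x.1)) (fun x => pullback.condition)

end Helper5.TFin
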