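import Groth.Agent.Lib.Helper5.TFin.Filt
import Mathlib.CategoryTheory.Sites.IsSheafFor
import Mathlib.CategoryTheory.Limits.Creates

open CategoryTheory CategoryTheory.Limits Opposite

set_option linter.unusedSectionVars false

namespace Helper5.TFin

universe u w w'

open ToposFin (Sh IsQC IsQCHom IsQSHom IsQS IsCohHom IsCoherent HasQCGenerators IsGenerating
  ClosedUnderPullbacks ClosedUnderEqualizers IsAlgebraic eps IsQCSite IsFP HasCoherentGenerators)

variable {C : Type u} [SmallCategory C] {J : GrothendieckTopology C}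

section

variable {I : Type u} [SmallCategory I] [IsFiltered I] (D : I ⥤ Sh J)

/-- the presheaf colimit -/
noncomputable abbrev Pc : Cᵒᵖ ⥤ Type u := colimit (D ⋙ sheafToPresheaf J (Type u))

/-- the cocone injections on sections -/
noncomputable def cinj (i : I) (U : C) (a : (D.obj i).obj.obj (op U)) : (Pc D).obj (op U) :=
  (colimit.ι (D ⋙ sheafToPresheaf J (Type u)) i).app (op U) a

noncomputable def evalIsColimit (U : C) : IsColimit (((evaluation Cᵒᵖ (Type u)).obj (op U)).mapCocone
    (colimit.cocone (D ⋙ sheafToPresheaf J (Type u)))) :=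
  isColimitOfPreserves _ (colimit.isColimit _)

lemma cinj_surj {U : C} (x : (Pc D).obj (op U)) : ∃ i a, cinj D i U a = x :=
  Types.jointly_surjective_of_isColimit (evalIsColimit D U) x

lemma cinj_eq_iff {i : I} {U : C} (a a' : (D.obj i).obj.obj (op U)) :
    cinj D i U a = cinj D i U a' ↔ ∃ (j : I) (u : i ⟶ j),
      (D.map u).hom.app (op U) a = (D.map u).hom.app (op U) a' :=
  Types.FilteredColimit.isColimit_eq_iff' (evalIsColimit D U) a a'

lemma cinj_map {i j : I} (u : i ⟶ j) {U : C} (a : (D.obj i).obj.obj (op U)) :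
    cinj D j U ((D.map u).hom.app (op U) a) = cinj D i U a := by
  have h := colimit.w (D ⋙ sheafToPresheaf J (Type u)) u
  have h2 := congrArg (fun (m : (D.obj i).obj ⟶ Pc D) => m.app (op U) a) h
  exact h2

lemma cinj_res (i : I) {U V : C} (g : V ⟶ U) (a : (D.obj i).obj.obj (op U)) :
    (Pc D).map g.op (cinj D i U a) = cinj D i V ((D.obj i).obj.map g.op a) :=
  (NatTrans.naturality_apply (colimit.ι (D ⋙ sheafToPresheaf J (Type u)) i) g.op a).symm

end

/-- sections of a sheaf agreeing on a covering family are equal -/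
lemma sec_ext_of_cover (F : Sh J) {X : C} {ι : Type w} (V : ι → C) (g : ∀ k, V k ⟶ X)
    (hcov : Sieve.ofArrows V g ∈ J X) (s s' : F.obj.obj (op X))
    (h : ∀ k, F.obj.map (g k).op s = F.obj.map (g k).op s') : s = s' := by
  apply (((isSheaf_iff_isSheaf_of_type _ _).1 F.2).isSeparated _ hcov).ext
  intro Y f hf
  obtain ⟨k, a, rfl⟩ := (Sieve.mem_ofArrows_iff V g f).1 hf
  rw [map_comp_sec, map_comp_sec, h k]

section

variable [HasPullbacks C] {I : Type u} [SmallCategory I] [IsFiltered I] (D : I ⥤ Sh J)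

lemma hom_map_sec' {F G : Sh J} (φ : F ⟶ G) {U V : C} (f : V ⟶ U) (s : F.obj.obj (op U)) :
    G.obj.map f.op (φ.hom.app (op U) s) = φ.hom.app (op V) (F.obj.map f.op s) :=
  (NatTrans.naturality_apply φ.hom f.op s).symm

theorem isSheafFor_Pc_ofArrows {X : C} {n : ℕ} (V : Fin n → C) (g : ∀ k, V k ⟶ X)
    (hcov : Sieve.ofArrows V g ∈ J X) : (Presieve.ofArrows V g).IsSheafFor (Pc D) := by
  classical
  rw [Presieve.isSheafFor_arrows_iff_pullbacks]
  have hD : ∀ j, ∀ (x : ∀ k, (D.obj j).obj.obj (op (V k))),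
      Presieve.Arrows.PullbackCompatible (D.obj j).obj g x →
        ∃! t, ∀ k, (D.obj j).obj.map (g k).op t = x k := fun j => by
    have h1 : Presieve.IsSheaf J (D.obj j).obj := (isSheaf_iff_isSheaf_of_type _ _).1 (D.obj j).2
    have h2 := h1 _ hcov
    have h3 := (Presieve.isSheafFor_iff_generate (Presieve.ofArrows V g)).2 h2
    exact (Presieve.isSheafFor_arrows_iff_pullbacks _ _).1 h3
  intro x hx
  -- represent `x k` at a common stage
  choose i₀ a₀ ha₀ using fun k => cinj_surj D (x k)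
  obtain ⟨i, hi⟩ := IsFiltered.sup_objs_exists (Finset.univ.image i₀)
  have hu : ∀ k, Nonempty (i₀ k ⟶ i) := fun k =>
    hi (Finset.mem_image_of_mem i₀ (Finset.mem_univ k))
  choose u₀ _ using fun k => (hu k).elim (fun v => (⟨v, trivial⟩ : ∃ _ : i₀ k ⟶ i, True))
  obtain ⟨a, ha⟩ : ∃ a : ∀ k, (D.obj i).obj.obj (op (V k)), ∀ k, cinj D i (V k) (a k) = x k :=
    ⟨fun k => (D.map (u₀ k)).hom.app (op (V k)) (a₀ k), fun k => by rw [cinj_map, ha₀]⟩
  -- compatibility at a later stage
  have hcomp : ∀ p : Fin n × Fin n, ∃ (j : I) (u : i ⟶ j),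
      (D.map u).hom.app _ ((D.obj i).obj.map (pullback.fst (g p.1) (g p.2)).op (a p.1)) =
        (D.map u).hom.app _ ((D.obj i).obj.map (pullback.snd (g p.1) (g p.2)).op (a p.2)) := by
    intro p
    rw [← cinj_eq_iff, ← cinj_res, ← cinj_res, ha, ha]
    exact hx p.1 p.2
  choose j₁ u₁ hu₁ using hcomp
  obtain ⟨j, u, hv⟩ := exists_common_under i (Finset.univ : Finset (Fin n × Fin n)) j₁ u₁
  obtain ⟨b, hbdef⟩ : ∃ b : ∀ k, (D.obj j).obj.obj (op (V k)),
      ∀ k, b k = (D.map u).hom.app (op (V k)) (a k) := ⟨_, fun k => rfl⟩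
  have hb : Presieve.Arrows.PullbackCompatible (D.obj j).obj g b := by
    intro k l
    obtain ⟨v, hv'⟩ := hv (k, l) (Finset.mem_univ _)
    rw [hbdef k, hbdef l, hom_map_sec' (D.map u) (pullback.fst (g k) (g l)) (a k),
      hom_map_sec' (D.map u) (pullback.snd (g k) (g l)) (a l), ← hv', D.map_comp,
      sec_comp (D.map (u₁ (k, l))) (D.map v), sec_comp (D.map (u₁ (k, l))) (D.map v)]
    exact congrArg _ (hu₁ (k, l))
  obtain ⟨t, ht, -⟩ := hD j b hb
  have hbx : ∀ k, cinj D j (V k) (b k) = x k := fun k => by rw [hbdef, cinj_map, ha]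
  refine ⟨cinj D j X t, fun k => ?_, ?_⟩
  · rw [cinj_res, ht, hbx]
  · intro t' ht'
    obtain ⟨i', c', rfl⟩ := cinj_surj D t'
    -- a common stage for `c'` and `t`
    obtain ⟨m, c'', t'', hc'', ht''⟩ : ∃ (m : I) (c'' t'' : (D.obj m).obj.obj (op X)),
        cinj D m X c'' = cinj D i' X c' ∧ cinj D m X t'' = cinj D j X t :=
      ⟨IsFiltered.max i' j, (D.map (IsFiltered.leftToMax i' j)).hom.app (op X) c',
        (D.map (IsFiltered.rightToMax i' j)).hom.app (op X) t, cinj_map D _ c', cinj_map D _ t⟩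
    have heq : ∀ k, ∃ (m' : I) (w : m ⟶ m'),
        (D.map w).hom.app _ ((D.obj m).obj.map (g k).op c'') =
          (D.map w).hom.app _ ((D.obj m).obj.map (g k).op t'') := by
      intro k
      rw [← cinj_eq_iff, ← cinj_res, ← cinj_res, hc'', ht'', ht' k, cinj_res, ht, hbx]
    choose m₁ w₁ hw₁ using heq
    obtain ⟨m', w, hw⟩ := exists_common_under m (Finset.univ : Finset (Fin n)) m₁ w₁
    have hfin : (D.map w).hom.app (op X) c'' = (D.map w).hom.app (op X) t'' := by
      apply sec_ext_of_cover (D.obj m') V g hcov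
      intro k
      obtain ⟨v, hv'⟩ := hw k (Finset.mem_univ _)
      rw [hom_map_sec' (D.map w) (g k) c'', hom_map_sec' (D.map w) (g k) t'', ← hv', D.map_comp,
        sec_comp (D.map (w₁ k)) (D.map v), sec_comp (D.map (w₁ k)) (D.map v)]
      exact congrArg _ (hw₁ k)
    rw [← hc'', ← ht'', ← cinj_map D w c'', ← cinj_map D w t'', hfin]

end


section

variable [HasPullbacks C] {I : Type u} [SmallCategory I] [IsFiltered I] (D : I ⥤ Sh J)

theorem isSheaf_Pc (hJ : ∀ U : C, IsQCSite J U) : Presheaf.IsSheaf J (Pc D) := by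
  rw [isSheaf_iff_isSheaf_of_type]
  intro X S hS
  obtain ⟨n, V, g, hg, hcov⟩ := hJ X S hS
  apply Presieve.isSheafFor_subsieve (S := Sieve.ofArrows V g) (P := Pc D)
  · intro Y f hf
    obtain ⟨k, a, rfl⟩ := (Sieve.mem_ofArrows_iff V g f).1 hf
    exact S.downward_closed (hg k) a
  · intro Y f
    have e := Sieve.ofArrows_eq_pullback_of_isPullback g (g := f)
      (P := fun k => pullback f (g k)) (p₁ := fun k => pullback.fst _ _)
      (p₂ := fun k => pullback.snd _ _) (fun k => IsPullback.of_hasPullback f (g k))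
    rw [← e, Sieve.ofArrows, ← Presieve.isSheafFor_iff_generate]
    apply isSheafFor_Pc_ofArrows
    rw [e]
    exact J.pullback_stable f hcov

end

theorem preservesColimitsOfShape_sheafToPresheaf [HasPullbacks C]
    (hJ : ∀ U : C, IsQCSite J U) (I : Type u) [SmallCategory I] [IsFiltered I] :
    PreservesColimitsOfShape I (sheafToPresheaf J (Type u)) := by
  constructor
  intro D
  have : CreatesColimit D (sheafToPresheaf J (Type u)) :=
    Sheaf.createsColimitOfIsSheaf D (fun c hc => by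
      have e : c.pt ≅ Pc D := hc.coconePointUniqueUpToIso (colimit.isColimit _)
      exact (Presheaf.isSheaf_of_iso_iff e).2 (isSheaf_Pc D hJ))
  infer_instance


end Helper5.TFin
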