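import Groth.Agent.Lib.Helper5.TFin.QS
import Mathlib.CategoryTheory.Extensive
import Mathlib.CategoryTheory.Limits.Shapes.StrictInitial

open CategoryTheory CategoryTheory.Limits Opposite

set_option linter.unusedSectionVars false

namespace Helper5.TFin

universe u w w'

variable {C : Type u} [SmallCategory C] {J : GrothendieckTopology C}

open ToposFin (Sh IsQC IsQCHom IsQSHom IsQS IsCohHom IsCoherent HasQCGenerators)

/-- being an initial object, as a proposition -/
def IsInit (X : Sh J) : Prop := Nonempty (IsInitial X)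

/-- anything mapping to an initial object is initial -/
lemma IsInit.of_hom {X Y : Sh J} (f : X ⟶ Y) (hY : IsInit Y) : IsInit X :=
  hY.elim fun h => ⟨IsInitial.ofStrict f h⟩

lemma IsInit.hom_ext {X Z : Sh J} (h : IsInit X) (a b : X ⟶ Z) : a = b :=
  h.elim fun h => h.hom_ext a b

lemma isInit_iff_iso (X : Sh J) : IsInit X ↔ Nonempty (X ≅ ⊥_ (Sh J)) := by
  constructor
  · rintro ⟨h⟩
    exact ⟨h.uniqueUpToIso initialIsInitial⟩
  · rintro ⟨e⟩
    exact ⟨initialIsInitial.ofIso e.symm⟩

lemma not_isInit_iff (X : Sh J) : ¬ IsInit X ↔ IsEmpty (X ≅ ⊥_ (Sh J)) := by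
  rw [isInit_iff_iso, not_nonempty_iff]

lemma isQC_of_isInit {X : Sh J} (hX : IsInit X) : IsQC X := by
  rw [isQC_iff]
  intro ι F π _
  exact ⟨∅, fun Z a b _ => hX.hom_ext a b⟩

lemma isQCHom_of_isInit {X Y : Sh J} (f : X ⟶ Y) (hX : IsInit X) : IsQCHom f := fun _ g _ =>
  isQC_of_isInit (hX.of_hom (pullback.fst f g))

/-- dropping initial members of a jointly epimorphic family -/
lemma JE.drop_initial {ι : Type w} {X : Sh J} {F : ι → Sh J} {π : ∀ i, F i ⟶ X} (h : JE π)
    (s : Set ι) (hs : ∀ i, i ∉ s → IsInit (F i)) : JE (fun i : s => π i) := by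
  intro Z a b hab
  apply h
  intro i
  by_cases hi : i ∈ s
  · exact hab ⟨i, hi⟩
  · exact (hs i hi).hom_ext _ _

/-- an object covered by initial objects is initial -/
lemma isInit_of_JE_initial {ι : Type w} {X : Sh J} {F : ι → Sh J} {π : ∀ i, F i ⟶ X}
    (h : JE π) (hF : ∀ i, IsInit (F i)) : IsInit X := by
  have hepi : Epi (initial.to X) := ⟨fun a b _ => h a b (fun i => (hF i).hom_ext _ _)⟩
  have hmono : Mono (initial.to X) := inferInstance
  have : IsIso (initial.to X) := isIso_of_mono_of_epi _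
  exact ⟨initialIsInitial.ofIso (asIso (initial.to X))⟩

/-- a family of disjoint subobjects covering an object -/
structure DisjCover {ι : Type w} {A : Sh J} {Ai : ι → Sh J} (u : ∀ i, Ai i ⟶ A) : Prop where
  je : JE u
  mono : ∀ i, Mono (u i)
  disj : ∀ (i j : ι), i ≠ j → ∀ (P : Sh J) (p₁ : P ⟶ Ai i) (p₂ : P ⟶ Ai j),
    p₁ ≫ u i = p₂ ≫ u j → IsInit P

lemma DisjCover.pullback {ι : Type w} {A : Sh J} {Ai : ι → Sh J} {u : ∀ i, Ai i ⟶ A}
    (h : DisjCover u) {T : Sh J} (t : T ⟶ A) : DisjCover (fun i => pullback.snd (u i) t) where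
  je := h.je.pullback' t
  mono := fun i => by
    have := h.mono i
    infer_instance
  disj := fun i j hij P p₁ p₂ hp => by
    refine h.disj i j hij P (p₁ ≫ pullback.fst (u i) t) (p₂ ≫ pullback.fst (u j) t) ?_
    rw [Category.assoc, Category.assoc, pullback.condition, pullback.condition,
      ← Category.assoc, ← Category.assoc, hp]

lemma DisjCover.reindex {ι : Type w} {ι' : Type w'} {A : Sh J} {Ai : ι → Sh J}
    {u : ∀ i, Ai i ⟶ A} (h : DisjCover u) (e : ι' → ι) (he : Function.Bijective e) :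
    DisjCover (fun i' => u (e i')) where
  je := h.je.reindex e he.2
  mono := fun i' => h.mono (e i')
  disj := fun i j hij P p₁ p₂ hp => h.disj (e i) (e j) (fun h' => hij (he.1 h')) P p₁ p₂ hp

lemma mono_pullback_map {A A' B B' S : Sh J} (a : A ⟶ S) (b : B ⟶ S) (a' : A' ⟶ S) (b' : B' ⟶ S)
    (i₁ : A' ⟶ A) (i₂ : B' ⟶ B) [Mono i₁] [Mono i₂] (e₁ : a' = i₁ ≫ a) (e₂ : b' = i₂ ≫ b) :
    Mono (pullback.map a' b' a b i₁ i₂ (𝟙 S) (by rw [Category.comp_id, e₁])
      (by rw [Category.comp_id, e₂])) := by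
  constructor
  intro Z p q hpq
  have e1 : pullback.map a' b' a b i₁ i₂ (𝟙 S) (by rw [Category.comp_id, e₁])
      (by rw [Category.comp_id, e₂]) ≫ pullback.fst a b = pullback.fst a' b' ≫ i₁ :=
    pullback.lift_fst _ _ _
  have e2 : pullback.map a' b' a b i₁ i₂ (𝟙 S) (by rw [Category.comp_id, e₁])
      (by rw [Category.comp_id, e₂]) ≫ pullback.snd a b = pullback.snd a' b' ≫ i₂ :=
    pullback.lift_snd _ _ _
  apply pullback.hom_ext
  · rw [← cancel_mono i₁, Category.assoc, Category.assoc, ← e1, ← Category.assoc, hpq,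
      Category.assoc]
  · rw [← cancel_mono i₂, Category.assoc, Category.assoc, ← e2, ← Category.assoc, hpq,
      Category.assoc]

/-- the product of two disjoint covers -/
lemma DisjCover.pullback_map {ι : Type w} {ι' : Type w'} {A A' S : Sh J} {Ai : ι → Sh J}
    {Ai' : ι' → Sh J} {u : ∀ i, Ai i ⟶ A} {u' : ∀ j, Ai' j ⟶ A'} (h : DisjCover u)
    (h' : DisjCover u') (a : A ⟶ S) (a' : A' ⟶ S) :
    DisjCover (fun p : ι × ι' => pullback.map (u p.1 ≫ a) (u' p.2 ≫ a') a a' (u p.1) (u' p.2)
      (𝟙 S) (Category.comp_id _) (Category.comp_id _)) where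
  je := h.je.pullback_map h'.je a a'
  mono := fun p => by
    have := h.mono p.1
    have := h'.mono p.2
    exact mono_pullback_map a a' _ _ (u p.1) (u' p.2) rfl rfl
  disj := fun p q hpq P p₁ p₂ hp => by
    have e1 : ∀ r : ι × ι', pullback.map (u r.1 ≫ a) (u' r.2 ≫ a') a a' (u r.1) (u' r.2)
        (𝟙 S) (Category.comp_id _) (Category.comp_id _) ≫ pullback.fst a a' =
        pullback.fst _ _ ≫ u r.1 := fun r => pullback.lift_fst _ _ _
    have e2 : ∀ r : ι × ι', pullback.map (u r.1 ≫ a) (u' r.2 ≫ a') a a' (u r.1) (u' r.2)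
        (𝟙 S) (Category.comp_id _) (Category.comp_id _) ≫ pullback.snd a a' =
        pullback.snd _ _ ≫ u' r.2 := fun r => pullback.lift_snd _ _ _
    by_cases h1 : p.1 = q.1
    · have h2 : p.2 ≠ q.2 := fun h2 => hpq (Prod.ext h1 h2)
      refine h'.disj p.2 q.2 h2 P (p₁ ≫ pullback.snd _ _) (p₂ ≫ pullback.snd _ _) ?_
      rw [Category.assoc, Category.assoc, ← e2 p, ← e2 q, ← Category.assoc, hp, Category.assoc]
    · refine h.disj p.1 q.1 h1 P (p₁ ≫ pullback.fst _ _) (p₂ ≫ pullback.fst _ _) ?_
      rw [Category.assoc, Category.assoc, ← e1 p, ← e1 q, ← Category.assoc, hp, Category.assoc]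

section Cofan

variable {ι : Type w} {F : ι → Sh J} (c : Cofan F) (hc : IsColimit c)

include hc in
lemma je_of_isColimit : JE c.inj := fun _ a b hab =>
  Cofan.IsColimit.hom_ext hc a b hab

open Classical in
/-- a retraction onto the `i`-th summand (plus a point) -/
noncomputable def cofanRetr (i : ι) : c.pt ⟶ F i ⨿ ⊤_ (Sh J) :=
  Cofan.IsColimit.desc hc (fun j =>
    if h : j = i then eqToHom (by rw [h]) ≫ coprod.inl else terminal.from _ ≫ coprod.inr)

lemma inj_cofanRetr_self (i : ι) : c.inj i ≫ cofanRetr c hc i = coprod.inl := by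
  rw [cofanRetr, Cofan.IsColimit.fac, dif_pos rfl, eqToHom_refl, Category.id_comp]

lemma inj_cofanRetr_of_ne (i j : ι) (h : j ≠ i) :
    c.inj j ≫ cofanRetr c hc i = terminal.from _ ≫ coprod.inr := by
  rw [cofanRetr, Cofan.IsColimit.fac, dif_neg h]

include hc in
lemma mono_inj_of_isColimit (i : ι) : Mono (c.inj i) := by
  have h1 : Mono (coprod.inl : F i ⟶ F i ⨿ ⊤_ (Sh J)) :=
    FinitaryExtensive.mono_inl_of_isColimit (colimit.isColimit _)
  have h2 : Mono (c.inj i ≫ cofanRetr c hc i) := by
    rw [inj_cofanRetr_self]; exact h1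
  exact mono_of_mono (c.inj i) (cofanRetr c hc i)

include hc in
theorem disjCover_of_isColimit : DisjCover c.inj where
  je := je_of_isColimit c hc
  mono := mono_inj_of_isColimit c hc
  disj := fun i j hij P p₁ p₂ hp => by
    have h1 : p₁ ≫ (coprod.inl : F i ⟶ F i ⨿ ⊤_ (Sh J)) =
        (p₂ ≫ terminal.from _) ≫ coprod.inr := by
      rw [← inj_cofanRetr_self c hc i, ← Category.assoc, hp, Category.assoc,
        inj_cofanRetr_of_ne c hc i j (Ne.symm hij), Category.assoc]
    have sq := FinitaryExtensive.isPullback_initial_to_binaryCofan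
      (colimit.isColimit (pair (F i) (⊤_ (Sh J))))
    exact IsInit.of_hom (sq.lift p₁ (p₂ ≫ terminal.from _) h1) ⟨initialIsInitial⟩

end Cofan

section QC

variable {ι : Type u} {A : Sh J} {Ai : ι → Sh J} {u : ∀ i, Ai i ⟶ A}

lemma DisjCover.isInit_of_not_mem (h : DisjCover u) (s : Set ι) (hs : JE (fun i : s => u i))
    (i : ι) (hi : i ∉ s) : IsInit (Ai i) := by
  have h1 : JE (fun j : s => pullback.snd (u j) (u i)) := hs.pullback' (u i)
  refine isInit_of_JE_initial h1 (fun j => ?_)
  exact h.disj j i (fun hji => hi (hji ▸ j.2)) _ (pullback.fst _ _) (pullback.snd _ _)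
    pullback.condition

lemma DisjCover.finite_not_isInit (h : DisjCover u) (hA : IsQC A) :
    {i | ¬ IsInit (Ai i)}.Finite := by
  obtain ⟨s, hs⟩ := exists_finset_of_isQC hA u h.je
  refine s.finite_toSet.subset (fun i hi => ?_)
  by_contra hi'
  exact hi (h.isInit_of_not_mem (↑s) hs i hi')

lemma DisjCover.isQC_member (h : DisjCover u) (hA : IsQC A) (i : ι) : IsQC (Ai i) := by
  classical
  have := h.mono i
  rw [isQC_iff]
  intro κ G π hπ
  -- the family on `A` consisting of `G k ⟶ Ai i ⟶ A` and the other `Ai j ⟶ A`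
  let F' : κ ⊕ {j : ι // j ≠ i} → Sh J := fun x => Sum.elim G (fun j => Ai j.1) x
  let π' : ∀ x, F' x ⟶ A := fun x =>
    match x with
    | Sum.inl k => π k ≫ u i
    | Sum.inr j => u j.1
  have hπ' : JE π' := by
    intro Z a b hab
    apply h.je
    intro j
    by_cases hj : j = i
    · subst hj
      apply hπ
      intro k
      rw [← Category.assoc, ← Category.assoc]
      exact hab (Sum.inl k)
    · exact hab (Sum.inr ⟨j, hj⟩)
  obtain ⟨t, ht⟩ := exists_finset_of_isQC hA π' hπ'
  refine ⟨t.toLeft, ?_⟩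
  -- pull back along `u i`
  have h1 : JE (fun x : t => pullback.snd (π' x) (u i)) := ht.pullback' (u i)
  intro Z a b hab
  apply h1
  rintro ⟨x, hxt⟩
  rcases x with k | j
  · have hk : k ∈ t.toLeft := by rw [Finset.mem_toLeft]; exact hxt
    obtain ⟨q, hq1, hq2⟩ : ∃ q : F' (Sum.inl k) ⟶ Ai i,
        (∀ (Z : Sh J) (a b : Ai i ⟶ Z), π k ≫ a = π k ≫ b → q ≫ a = q ≫ b) ∧
          π' (Sum.inl k) = q ≫ u i := ⟨π k, fun Z a b h => h, rfl⟩
    have e : pullback.snd (π' (Sum.inl k)) (u i) = pullback.fst (π' (Sum.inl k)) (u i) ≫ q := by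
      rw [← cancel_mono (u i), Category.assoc, ← hq2]
      exact pullback.condition.symm
    change pullback.snd (π' (Sum.inl k)) (u i) ≫ a = pullback.snd (π' (Sum.inl k)) (u i) ≫ b
    rw [e, Category.assoc, Category.assoc, hq1 Z a b (hab ⟨k, hk⟩)]
  · exact (h.disj j.1 i j.2 _ (pullback.fst (π' (Sum.inr j)) (u i))
      (pullback.snd (π' (Sum.inr j)) (u i)) pullback.condition).hom_ext _ _

/-- an object with a disjoint cover by quasi-compacts, finitely many non-initial, is qc -/
lemma isQC_of_disjCover (h : DisjCover u) (hfin : {i | ¬ IsInit (Ai i)}.Finite)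
    (hqc : ∀ i, IsQC (Ai i)) : IsQC A := by
  have h1 : JE (fun i : {i | ¬ IsInit (Ai i)} => u i) :=
    h.je.drop_initial {i | ¬ IsInit (Ai i)} (fun i hi => not_not.1 hi)
  have : Finite {i | ¬ IsInit (Ai i)} := hfin.to_subtype
  exact isQC_of_finite_JE _ h1 (fun i => hqc i)

/-- the members of a disjoint cover are quasi-compact morphisms -/
lemma DisjCover.isQCHom (h : DisjCover u) (i : ι) : IsQCHom (u i) := fun _ t hT =>
  (h.pullback t).isQC_member hT i

/-- quasi-compactness of a morphism is local on the target for disjoint covers -/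
lemma isQCHom_of_disjCover {X : Sh J} (g : X ⟶ A) (h : DisjCover u)
    (hg : ∀ i, IsQCHom (pullback.snd g (u i))) : IsQCHom g := by
  intro T t hT
  have hT' := h.pullback t
  have hfin := hT'.finite_not_isInit hT
  have h1 : JE (fun i : {i | ¬ IsInit (pullback (u i) t)} => pullback.snd (u i) t) :=
    hT'.je.drop_initial _ (fun i hi => not_not.1 hi)
  have : Finite {i | ¬ IsInit (pullback (u i) t)} := hfin.to_subtype
  refine isQC_pullback_of_finite_cover g t _ h1 (fun i => ?_)
  have e : pullback.snd (u i.1) t ≫ t = pullback.fst (u i.1) t ≫ u i.1 := pullback.condition.symm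
  have h2 : IsQC (pullback g (pullback.fst (u i.1) t ≫ u i.1)) :=
    isQC_of_iso (pullbackLeftPullbackSndIso g (u i.1) (pullback.fst (u i.1) t))
      (hg i.1 _ _ (hT'.isQC_member hT i.1))
  exact isQC_of_iso (pullback.congrHom rfl e.symm) h2


/-- for a monomorphism `v`, the diagonal of `v ≫ f` is the base change of the diagonal of `f` -/
lemma isPullback_diagonal_of_mono {X' X Y : Sh J} (v : X' ⟶ X) [Mono v] (f : X ⟶ Y) :
    IsPullback v (pullback.diagonal (v ≫ f)) (pullback.diagonal f)
      (pullback.map (v ≫ f) (v ≫ f) f f v v (𝟙 Y) (Category.comp_id _) (Category.comp_id _)) := by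
  have e1 : pullback.map (v ≫ f) (v ≫ f) f f v v (𝟙 Y) (Category.comp_id _) (Category.comp_id _) ≫
      pullback.fst f f = pullback.fst _ _ ≫ v := pullback.lift_fst _ _ _
  have e2 : pullback.map (v ≫ f) (v ≫ f) f f v v (𝟙 Y) (Category.comp_id _) (Category.comp_id _) ≫
      pullback.snd f f = pullback.snd _ _ ≫ v := pullback.lift_snd _ _ _
  have w : v ≫ pullback.diagonal f = pullback.diagonal (v ≫ f) ≫
      pullback.map (v ≫ f) (v ≫ f) f f v v (𝟙 Y) (Category.comp_id _) (Category.comp_id _) := by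
    apply pullback.hom_ext
    · rw [Category.assoc, Category.assoc, e1, pullback.diagonal_fst, ← Category.assoc,
        pullback.diagonal_fst, Category.comp_id, Category.id_comp]
    · rw [Category.assoc, Category.assoc, e2, pullback.diagonal_snd, ← Category.assoc,
        pullback.diagonal_snd, Category.comp_id, Category.id_comp]
  refine ⟨⟨w⟩, ⟨PullbackCone.IsLimit.mk _ (fun s => s.snd ≫ pullback.fst _ _) ?_ ?_ ?_⟩⟩
  · intro s
    have h1 := congrArg (fun m => m ≫ pullback.fst f f) s.condition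
    simp only [Category.assoc, pullback.diagonal_fst, Category.comp_id, e1] at h1
    rw [Category.assoc]
    exact h1.symm
  · intro s
    have h1 := congrArg (fun m => m ≫ pullback.fst f f) s.condition
    have h2 := congrArg (fun m => m ≫ pullback.snd f f) s.condition
    simp only [Category.assoc, pullback.diagonal_fst, pullback.diagonal_snd, Category.comp_id,
      e1, e2] at h1 h2
    have h3 : s.snd ≫ pullback.fst (v ≫ f) (v ≫ f) = s.snd ≫ pullback.snd (v ≫ f) (v ≫ f) := by
      rw [← cancel_mono v, Category.assoc, Category.assoc, ← h1, ← h2]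
    apply pullback.hom_ext
    · rw [Category.assoc, pullback.diagonal_fst, Category.comp_id]
    · rw [Category.assoc, pullback.diagonal_snd, Category.comp_id, h3]
  · intro s m hm1 hm2
    have := congrArg (fun m => m ≫ pullback.fst (v ≫ f) (v ≫ f)) hm2
    simp only [Category.assoc, pullback.diagonal_fst, Category.comp_id] at this
    exact this

/-- quasi-separatedness of a morphism can be tested on a disjoint cover of the source -/
theorem isQSHom_of_disjCover_source {X Y : Sh J} {Xi : ι → Sh J} {v : ∀ i, Xi i ⟶ X}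
    (h : DisjCover v) (f : X ⟶ Y) (hf : ∀ i, IsQSHom (v i ≫ f)) : IsQSHom f := by
  change IsQCHom (pullback.diagonal f)
  refine isQCHom_of_disjCover (pullback.diagonal f) (h.pullback_map h f f) ?_
  rintro ⟨i, j⟩
  by_cases hij : i = j
  · subst hij
    have := h.mono i
    have sq := isPullback_diagonal_of_mono (v i) f
    have e : pullback.snd (pullback.diagonal f) (pullback.map (v i ≫ f) (v i ≫ f) f f (v i) (v i)
        (𝟙 Y) (Category.comp_id _) (Category.comp_id _)) =
        sq.isoPullback.inv ≫ pullback.diagonal (v i ≫ f) := by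
      rw [Iso.eq_inv_comp, IsPullback.isoPullback_hom_snd]
    change IsQCHom (pullback.snd (pullback.diagonal f) (pullback.map (v i ≫ f) (v i ≫ f) f f (v i)
      (v i) (𝟙 Y) (Category.comp_id _) (Category.comp_id _)))
    rw [e]
    exact isQCHom_of_iso_comp sq.isoPullback.symm _ (hf i)
  · apply isQCHom_of_isInit
    have e1 : pullback.map (v i ≫ f) (v j ≫ f) f f (v i) (v j) (𝟙 Y) (Category.comp_id _)
        (Category.comp_id _) ≫ pullback.fst f f = pullback.fst _ _ ≫ v i := pullback.lift_fst _ _ _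
    have e2 : pullback.map (v i ≫ f) (v j ≫ f) f f (v i) (v j) (𝟙 Y) (Category.comp_id _)
        (Category.comp_id _) ≫ pullback.snd f f = pullback.snd _ _ ≫ v j := pullback.lift_snd _ _ _
    refine h.disj i j hij _ (pullback.snd _ _ ≫ pullback.fst _ _)
      (pullback.snd _ _ ≫ pullback.snd _ _) ?_
    have c := pullback.condition (f := pullback.diagonal f) (g := pullback.map (v i ≫ f) (v j ≫ f)
      f f (v i) (v j) (𝟙 Y) (Category.comp_id _) (Category.comp_id _))
    have h1 := congrArg (fun m => m ≫ pullback.fst f f) c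
    have h2 := congrArg (fun m => m ≫ pullback.snd f f) c
    simp only [Category.assoc, pullback.diagonal_fst, pullback.diagonal_snd, Category.comp_id,
      e1, e2] at h1 h2
    rw [Category.assoc, Category.assoc, ← h1, ← h2]


end QC

end Helper5.TFin
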