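import Groth.Prelude.Def_SGA4c
import Mathlib.CategoryTheory.Sites.LocallySurjective
import Mathlib.CategoryTheory.Sites.Subsheaf
import Mathlib.CategoryTheory.Limits.Types.Pullbacks
import Mathlib.CategoryTheory.Limits.Shapes.Pullback.IsPullback.Basic
import Mathlib.CategoryTheory.Limits.Preserves.Shapes.Pullbacks

open CategoryTheory CategoryTheory.Limits Opposite

set_option linter.unusedSectionVars false

namespace Helper5.TFin

universe u w

variable {C : Type u} [SmallCategory C] {J : GrothendieckTopology C}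

open ToposFin (Sh)

/-- jointly epimorphic family -/
def JE {ι : Type w} {X : Sh J} {F : ι → Sh J} (π : ∀ i, F i ⟶ X) : Prop :=
  ∀ ⦃Z : Sh J⦄ (a b : X ⟶ Z), (∀ i, π i ≫ a = π i ≫ b) → a = b

lemma epi_sigmaDesc_iff {ι : Type w} {X : Sh J} {F : ι → Sh J} [HasCoproduct F]
    (π : ∀ i, F i ⟶ X) : Epi (Sigma.desc π) ↔ JE π := by
  constructor
  · intro h Z a b hab
    rw [← cancel_epi (Sigma.desc π)]
    apply Sigma.hom_ext
    intro i
    simp [hab i]
  · intro h
    refine ⟨fun {Z} a b hab => h a b (fun i => ?_)⟩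
    have := congrArg (fun t => Sigma.ι F i ≫ t) hab
    simpa using this

/-- the sieve of arrows along which a section lifts to a member of the family -/
def liftSieve {ι : Type w} {X : Sh J} {F : ι → Sh J} (π : ∀ i, F i ⟶ X) {U : C}
    (s : X.obj.obj (op U)) : Sieve U where
  arrows V f := ∃ (i : ι) (t : (F i).obj.obj (op V)), (π i).hom.app (op V) t = X.obj.map f.op s
  downward_closed := by
    rintro V W f ⟨i, t, ht⟩ g
    refine ⟨i, (F i).obj.map g.op t, ?_⟩
    rw [NatTrans.naturality_apply, ht, op_comp, X.obj.map_comp]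
    rfl

/-- jointly locally surjective family -/
def JLS {ι : Type w} {X : Sh J} {F : ι → Sh J} (π : ∀ i, F i ⟶ X) : Prop :=
  ∀ (U : C) (s : X.obj.obj (op U)), liftSieve π s ∈ J U

lemma JLS.je {ι : Type w} {X : Sh J} {F : ι → Sh J} {π : ∀ i, F i ⟶ X} (h : JLS π) : JE π := by
  intro Z a b hab
  ext U s
  apply (((isSheaf_iff_isSheaf_of_type _ _).1 Z.2).isSeparated _ (h U.unop s)).ext
  rintro V f ⟨i, t, ht⟩
  dsimp
  have h₁ := NatTrans.naturality_apply a.hom f.op s
  have h₂ := NatTrans.naturality_apply b.hom f.op s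
  rw [← h₁, ← h₂, ← ht]
  exact ConcreteCategory.congr_hom (congr_app ((sheafToPresheaf J _).congr_map (hab i)) (op V)) t

/-- the union of the ranges of the members of a family, as a subfunctor -/
def famRange {ι : Type w} {X : Sh J} {F : ι → Sh J} (π : ∀ i, F i ⟶ X) : Subfunctor X.obj where
  obj U := {s | ∃ (i : ι) (t : (F i).obj.obj U), (π i).hom.app U t = s}
  map := by
    rintro U V f s ⟨i, t, rfl⟩
    exact ⟨i, (F i).obj.map f t, by rw [NatTrans.naturality_apply]⟩

lemma JE.jls {ι : Type w} {X : Sh J} {F : ι → Sh J} {π : ∀ i, F i ⟶ X} (h : JE π) : JLS π := by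
  let G : Subfunctor X.obj := famRange π
  have hXs : Presieve.IsSheaf J X.obj := (isSheaf_iff_isSheaf_of_type _ _).1 X.2
  let X' : Sh J := ⟨(G.sheafify J).toFunctor, by
    rw [isSheaf_iff_isSheaf_of_type]; exact G.sheafify_isSheaf hXs⟩
  let incl : X' ⟶ X := ⟨(G.sheafify J).ι⟩
  have hle : ∀ i, Subfunctor.range (π i).hom ≤ G.sheafify J := by
    intro i
    refine le_trans ?_ (G.le_sheafify J)
    rintro U s ⟨t, rfl⟩
    exact ⟨i, t, rfl⟩
  let π' : ∀ i, F i ⟶ X' := fun i => ⟨Subfunctor.lift (π i).hom (hle i)⟩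
  have hfac : ∀ i, π' i ≫ incl = π i := fun i => rfl
  have hepi : Epi incl := ⟨fun a b hab => h a b (fun i => by
    rw [← hfac i, Category.assoc, hab, Category.assoc])⟩
  have hls : Sheaf.IsLocallySurjective incl := (Sheaf.isLocallySurjective_iff_epi incl).2 hepi
  intro U s
  have h1 := Presheaf.imageSieve_mem J incl.hom s
  have h2 : s ∈ ((G.sheafify J).sheafify J).obj (op U) := by
    change (G.sheafify J).sieveOfSection s ∈ J U
    refine J.superset_covering ?_ h1
    rintro V f ⟨t, ht⟩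
    change X.obj.map f.op s ∈ (G.sheafify J).obj (op V)
    rw [← ht]
    exact t.2
  rw [Subfunctor.sheafify_sheafify _ hXs] at h2
  exact h2

lemma je_iff_jls {ι : Type w} {X : Sh J} {F : ι → Sh J} (π : ∀ i, F i ⟶ X) : JE π ↔ JLS π :=
  ⟨JE.jls, JLS.je⟩

end Helper5.TFin
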