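import Groth.Agent.Lib.Helper5.TFin.Filt

open CategoryTheory CategoryTheory.Limits Opposite

set_option linter.unusedSectionVars false

namespace Helper5.TFin

universe u w w'

open ToposFin (Sh IsQC IsQCHom IsQSHom IsQS IsCohHom IsCoherent HasQCGenerators IsGenerating
  ClosedUnderPullbacks ClosedUnderEqualizers IsAlgebraic eps IsQCSite IsFP HasCoherentGenerators)

variable {C : Type u} [SmallCategory C] {J : GrothendieckTopology C}

lemma isFP_iff (X : Sh J) : IsFP X ↔ HInj X ∧ HSurj X := by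
  rw [hInj_iff, hSurj_iff]
  constructor
  · intro h
    exact ⟨fun I _ _ D => (h I D).1, fun I _ _ D => (h I D).2⟩
  · rintro ⟨h1, h2⟩ I _ _ D
    exact ⟨h1 I D, h2 I D⟩

lemma hInj_of_epi {X Q : Sh J} (p : X ⟶ Q) [Epi p] (hX : HInj X) : HInj Q := by
  intro I _ _ D i f f' h
  obtain ⟨j, u, hu⟩ := hX I D i (p ≫ f) (p ≫ f') (by rw [Category.assoc, Category.assoc, h])
  refine ⟨j, u, ?_⟩
  rw [← cancel_epi p, ← Category.assoc, hu, Category.assoc]

/-- a coequalizer of objects of finite presentation is of finite presentation -/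
lemma hSurj_coequalizer {X₀ X₁ : Sh J} (a b : X₁ ⟶ X₀) (h0' : HSurj X₀)
    (h1 : HInj X₁) : HSurj (coequalizer a b) := by
  intro I _ _ D φ
  obtain ⟨j, g, hg⟩ := h0' I D (coequalizer.π a b ≫ φ)
  obtain ⟨j', u, hu⟩ := h1 I D j (a ≫ g) (b ≫ g) (by
    rw [Category.assoc, Category.assoc, hg, ← Category.assoc, ← Category.assoc,
      coequalizer.condition])
  refine ⟨j', coequalizer.desc (g ≫ D.map u) (by
    rw [← Category.assoc, ← Category.assoc]; exact hu), ?_⟩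
  rw [← cancel_epi (coequalizer.π a b), ← Category.assoc, coequalizer.π_desc, Category.assoc,
    colimit.w, hg]

lemma hInj_retract {X Q : Sh J} (i : X ⟶ Q) (p : Q ⟶ X) (hip : i ≫ p = 𝟙 X) (hQ : HInj Q) :
    HInj X := by
  intro I _ _ D k f f' h
  obtain ⟨j, u, hu⟩ := hQ I D k (p ≫ f) (p ≫ f') (by rw [Category.assoc, Category.assoc, h])
  refine ⟨j, u, ?_⟩
  have := congrArg (fun m => i ≫ m) hu
  simpa [← Category.assoc, hip] using this

lemma hSurj_retract {X Q : Sh J} (i : X ⟶ Q) (p : Q ⟶ X) (hip : i ≫ p = 𝟙 X) (hQ : HSurj Q) :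
    HSurj X := by
  intro I _ _ D φ
  obtain ⟨j, g, hg⟩ := hQ I D (p ≫ φ)
  refine ⟨j, i ≫ g, ?_⟩
  rw [Category.assoc, hg, ← Category.assoc, hip, Category.id_comp]

/-- a retract of a coherent object is coherent -/
lemma isCoherent_retract {X Q : Sh J} (i : X ⟶ Q) (p : Q ⟶ X) (hip : i ≫ p = 𝟙 X)
    (hQ : IsCoherent Q) : IsCoherent X := by
  have : IsSplitEpi p := ⟨⟨i, hip⟩⟩
  have : IsSplitMono i := ⟨⟨p, hip⟩⟩
  exact ⟨isQC_of_epi p hQ.1, isQS_of_isQSHom i (isQSHom_of_mono i) hQ.2⟩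

/-- a finite coproduct of coherent objects is coherent -/
lemma isCoherent_sigma {ι : Type u} [Finite ι] (F : ι → Sh J) (hF : ∀ i, IsCoherent (F i)) :
    IsCoherent (∐ F) := by
  have h : DisjCover (Cofan.mk (∐ F) (Sigma.ι F)).inj :=
    disjCover_of_isColimit _ (coproductIsCoproduct F)
  refine ⟨isQC_of_finite_JE (Sigma.ι F) h.je (fun i => (hF i).1), ?_⟩
  intro A B a b hA hB
  have ha : IsQCHom a := by
    refine isQCHom_of_disjCover a h (fun i => ?_)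
    refine isQCHom_of_isQC_of_isQS _ ?_ (hF i).2
    exact isQC_of_iso (pullbackSymmetry _ _) ((h.pullback a).isQC_member hA i)
  exact ha B b hB

section Rel

open Classical

variable {P X : Sh J} (p₀ : P ⟶ X) {μ : Type u} {L : μ → Sh J}
  (ℓ : ∀ m, L m ⟶ pullback p₀ p₀)

/-- first leg of the finite relation -/
noncomputable def relA (t : Finset μ) : (∐ fun m : t => L m) ⟶ P :=
  Sigma.desc (fun m : t => ℓ m ≫ pullback.fst p₀ p₀)

/-- second leg of the finite relation -/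
noncomputable def relB (t : Finset μ) : (∐ fun m : t => L m) ⟶ P :=
  Sigma.desc (fun m : t => ℓ m ≫ pullback.snd p₀ p₀)

/-- the quotient of `P` by finitely many relations -/
noncomputable def relQ (t : Finset μ) : Sh J := coequalizer (relA p₀ ℓ t) (relB p₀ ℓ t)

noncomputable def relπ (t : Finset μ) : P ⟶ relQ p₀ ℓ t := coequalizer.π _ _

instance relπ_epi (t : Finset μ) : Epi (relπ p₀ ℓ t) :=
  coequalizer.π_epi

lemma rel_cond (t : Finset μ) (m : μ) (hm : m ∈ t) :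
    (ℓ m ≫ pullback.fst p₀ p₀) ≫ relπ p₀ ℓ t = (ℓ m ≫ pullback.snd p₀ p₀) ≫ relπ p₀ ℓ t := by
  have h1 : ℓ m ≫ pullback.fst p₀ p₀ = Sigma.ι (fun m : t => L m) ⟨m, hm⟩ ≫ relA p₀ ℓ t := by
    rw [relA, Sigma.ι_desc]
  have h2 : ℓ m ≫ pullback.snd p₀ p₀ = Sigma.ι (fun m : t => L m) ⟨m, hm⟩ ≫ relB p₀ ℓ t := by
    rw [relB, Sigma.ι_desc]
  rw [h1, h2, Category.assoc, Category.assoc]
  exact congrArg (fun k => Sigma.ι (fun m : t => L m) ⟨m, hm⟩ ≫ k)
    (coequalizer.condition (relA p₀ ℓ t) (relB p₀ ℓ t))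

noncomputable def relDesc (t : Finset μ) {Z : Sh J} (e : P ⟶ Z)
    (h : ∀ m ∈ t, (ℓ m ≫ pullback.fst p₀ p₀) ≫ e = (ℓ m ≫ pullback.snd p₀ p₀) ≫ e) :
    relQ p₀ ℓ t ⟶ Z :=
  coequalizer.desc e (by
    apply Sigma.hom_ext
    rintro ⟨m, hm⟩
    rw [relA, relB, ← Category.assoc, ← Category.assoc, Sigma.ι_desc, Sigma.ι_desc]
    exact h m hm)

lemma relπ_desc (t : Finset μ) {Z : Sh J} (e : P ⟶ Z)
    (h : ∀ m ∈ t, (ℓ m ≫ pullback.fst p₀ p₀) ≫ e = (ℓ m ≫ pullback.snd p₀ p₀) ≫ e) :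
    relπ p₀ ℓ t ≫ relDesc p₀ ℓ t e h = e := coequalizer.π_desc _ _

/-- the diagram of finite quotients -/
noncomputable def relFunctor : Finset μ ⥤ Sh J where
  obj t := relQ p₀ ℓ t
  map {t t'} f := relDesc p₀ ℓ t (relπ p₀ ℓ t') (fun m hm => rel_cond p₀ ℓ t' m (leOfHom f hm))
  map_id t := by
    rw [← cancel_epi (relπ p₀ ℓ t), relπ_desc, Category.comp_id]
  map_comp {t t' t''} f g := by
    rw [← cancel_epi (relπ p₀ ℓ t), relπ_desc, ← Category.assoc, relπ_desc, relπ_desc]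

/-- the quotient map, typed into the functor -/
noncomputable def rπ (t : Finset μ) : P ⟶ (relFunctor p₀ ℓ).obj t := relπ p₀ ℓ t

instance rπ_epi (t : Finset μ) : Epi (rπ p₀ ℓ t) := relπ_epi p₀ ℓ t

lemma rπ_map {t t' : Finset μ} (f : t ⟶ t') :
    rπ p₀ ℓ t ≫ (relFunctor p₀ ℓ).map f = rπ p₀ ℓ t' :=
  relπ_desc p₀ ℓ t (relπ p₀ ℓ t') (fun m hm => rel_cond p₀ ℓ t' m (leOfHom f hm))

lemma rπ_map_assoc {t t' : Finset μ} (f : t ⟶ t') {Z : Sh J}
    (g : (relFunctor p₀ ℓ).obj t' ⟶ Z) :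
    rπ p₀ ℓ t ≫ (relFunctor p₀ ℓ).map f ≫ g = rπ p₀ ℓ t' ≫ g := by
  rw [← Category.assoc, rπ_map]

lemma r_cond (t : Finset μ) (m : μ) (hm : m ∈ t) :
    (ℓ m ≫ pullback.fst p₀ p₀) ≫ rπ p₀ ℓ t = (ℓ m ≫ pullback.snd p₀ p₀) ≫ rπ p₀ ℓ t :=
  rel_cond p₀ ℓ t m hm

/-- the map from a finite quotient to `X` -/
noncomputable def rToX (t : Finset μ) : (relFunctor p₀ ℓ).obj t ⟶ X :=
  relDesc p₀ ℓ t p₀ (fun m _ => by
    rw [Category.assoc, Category.assoc, pullback.condition])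

lemma rπ_toX (t : Finset μ) : rπ p₀ ℓ t ≫ rToX p₀ ℓ t = p₀ := relπ_desc p₀ ℓ t _ _

/-- the cocone of finite quotients over `X` -/
noncomputable def rCocone : Cocone (relFunctor p₀ ℓ) where
  pt := X
  ι :=
    { app := fun t => rToX p₀ ℓ t
      naturality := fun t t' f => by
        rw [← cancel_epi (rπ p₀ ℓ t), rπ_map_assoc, rπ_toX]
        change _ = rπ p₀ ℓ t ≫ rToX p₀ ℓ t ≫ 𝟙 X
        rw [Category.comp_id, rπ_toX] }

variable [Epi p₀] (hℓ : JE ℓ)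

include hℓ in
/-- an object of finite presentation is a retract of a finite quotient -/
theorem exists_retract_relQ (hX : HSurj X) :
    ∃ (t : Finset μ) (g : X ⟶ (relFunctor p₀ ℓ).obj t), g ≫ rToX p₀ ℓ t = 𝟙 X := by
  let e : P ⟶ colimit (relFunctor p₀ ℓ) := rπ p₀ ℓ ∅ ≫ colimit.ι (relFunctor p₀ ℓ) ∅
  have he : pullback.fst p₀ p₀ ≫ e = pullback.snd p₀ p₀ ≫ e := by
    apply hℓ
    intro m
    have hle : (∅ : Finset μ) ≤ {m} := Finset.empty_subset _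
    have e1 : e = rπ p₀ ℓ {m} ≫ colimit.ι (relFunctor p₀ ℓ) {m} := by
      change rπ p₀ ℓ ∅ ≫ colimit.ι (relFunctor p₀ ℓ) ∅ = _
      rw [← colimit.w (relFunctor p₀ ℓ) (homOfLE hle), rπ_map_assoc]
    have hc := r_cond p₀ ℓ {m} m (Finset.mem_singleton_self m)
    calc ℓ m ≫ pullback.fst p₀ p₀ ≫ e
        = ((ℓ m ≫ pullback.fst p₀ p₀) ≫ rπ p₀ ℓ {m}) ≫ colimit.ι (relFunctor p₀ ℓ) {m} := by
          rw [e1]; simp only [Category.assoc]
      _ = ((ℓ m ≫ pullback.snd p₀ p₀) ≫ rπ p₀ ℓ {m}) ≫ colimit.ι (relFunctor p₀ ℓ) {m} := by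
          rw [hc]
      _ = ℓ m ≫ pullback.snd p₀ p₀ ≫ e := by
          rw [e1]; simp only [Category.assoc]
  obtain ⟨φ, hφ⟩ := exists_desc_of_epi p₀ e he
  obtain ⟨t, g, hg⟩ := hX (Finset μ) (relFunctor p₀ ℓ) φ
  refine ⟨t, g, ?_⟩
  obtain ⟨Pd, hPd⟩ : ∃ Pd : colimit (relFunctor p₀ ℓ) ⟶ X,
      ∀ t, colimit.ι (relFunctor p₀ ℓ) t ≫ Pd = rToX p₀ ℓ t :=
    ⟨colimit.desc _ (rCocone p₀ ℓ), fun t => colimit.ι_desc _ _⟩
  have h1 : φ ≫ Pd = 𝟙 X := by
    rw [← cancel_epi p₀, ← Category.assoc, hφ, Category.comp_id]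
    change (rπ p₀ ℓ ∅ ≫ colimit.ι (relFunctor p₀ ℓ) ∅) ≫ _ = _
    rw [Category.assoc, hPd]
    exact rπ_toX p₀ ℓ ∅
  rw [← hPd t, ← Category.assoc, hg, h1]

/-- if finitely many relations generate, the finite quotient is `X` -/
theorem nonempty_relQ_iso (t : Finset μ) (ht : JE (fun m : t => ℓ m)) :
    Nonempty (coequalizer (relA p₀ ℓ t) (relB p₀ ℓ t) ≅ X) := by
  have he : pullback.fst p₀ p₀ ≫ rπ p₀ ℓ t = pullback.snd p₀ p₀ ≫ rπ p₀ ℓ t := by
    apply ht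
    rintro ⟨m, hm⟩
    have := r_cond p₀ ℓ t m hm
    simpa only [Category.assoc] using this
  obtain ⟨ψ, hψ⟩ := exists_desc_of_epi p₀ (rπ p₀ ℓ t) he
  have h1 : rToX p₀ ℓ t ≫ ψ = 𝟙 _ := by
    rw [← cancel_epi (rπ p₀ ℓ t), ← Category.assoc, rπ_toX, hψ, Category.comp_id]
  have h2 : ψ ≫ rToX p₀ ℓ t = 𝟙 X := by
    rw [← cancel_epi p₀, ← Category.assoc, hψ, Category.comp_id, rπ_toX]
  exact ⟨⟨rToX p₀ ℓ t, ψ, h1, h2⟩⟩

end Rel


section Gen

variable {S : Set (Sh J)} (hqc : ∀ K ∈ S, IsQC K) (hgen : IsGenerating S)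

include hqc hgen in
/-- an object of finite presentation is a retract of a coequalizer of finite coproducts of
generators -/
theorem exists_retract_of_fp {X : Sh J} (hI : HInj X) (hS : HSurj X) :
    ∃ (ι₀ : Type u) (_ : Finite ι₀) (K : ι₀ → Sh J) (μ₀ : Type u) (_ : Finite μ₀)
      (L : μ₀ → Sh J) (a b : ∐ L ⟶ ∐ K) (i : X ⟶ coequalizer a b) (p : coequalizer a b ⟶ X),
      (∀ k, K k ∈ S) ∧ (∀ m, L m ∈ S) ∧ i ≫ p = 𝟙 X := by
  have hX : IsQC X := isQC_of_hInj hI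
  obtain ⟨ι, F, π, s, hF, hs⟩ := exists_finite_gen_cover hqc hgen hX
  have hp : Epi (Sigma.desc (fun k : s => π k)) := (epi_sigmaDesc_iff _).2 hs
  obtain ⟨μ, L, ℓ, hL, hℓ⟩ := (isGenerating_iff S).1 hgen
    (pullback (Sigma.desc (fun k : s => π k)) (Sigma.desc (fun k : s => π k)))
  obtain ⟨t, g, hg⟩ := exists_retract_relQ (Sigma.desc (fun k : s => π k)) ℓ hℓ hS
  exact ⟨s, inferInstance, fun k => F k, t, inferInstance, fun m => L m,
    relA (Sigma.desc (fun k : s => π k)) ℓ t, relB (Sigma.desc (fun k : s => π k)) ℓ t, g,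
    rToX (Sigma.desc (fun k : s => π k)) ℓ t, fun k => hF k, fun m => hL m, hg⟩

include hqc hgen in
/-- a coherent object is a coequalizer of finite coproducts of generators -/
theorem exists_iso_coequalizer_of_isCoherent {X : Sh J} (hX : IsCoherent X) :
    ∃ (ι₀ : Type u) (_ : Finite ι₀) (K : ι₀ → Sh J) (μ₀ : Type u) (_ : Finite μ₀)
      (L : μ₀ → Sh J) (a b : ∐ L ⟶ ∐ K), (∀ k, K k ∈ S) ∧ (∀ m, L m ∈ S) ∧
        Nonempty (coequalizer a b ≅ X) := by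
  obtain ⟨ι, F, π, s, hF, hs⟩ := exists_finite_gen_cover hqc hgen hX.1
  have hp : Epi (Sigma.desc (fun k : s => π k)) := (epi_sigmaDesc_iff _).2 hs
  have hP : IsQC (∐ fun k : s => F k) :=
    isQC_of_finite_JE (Sigma.ι fun k : s => F k)
      (je_of_isColimit (Cofan.mk _ (Sigma.ι fun k : s => F k)) (coproductIsCoproduct _))
      (fun k => hqc _ (hF k))
  have hR := hX.2 _ _ (Sigma.desc (fun k : s => π k)) (Sigma.desc (fun k : s => π k)) hP hP
  obtain ⟨μ, L, ℓ, t, hL, ht⟩ := exists_finite_gen_cover hqc hgen hR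
  exact ⟨s, inferInstance, fun k => F k, t, inferInstance, fun m => L m,
    relA (Sigma.desc (fun k : s => π k)) ℓ t, relB (Sigma.desc (fun k : s => π k)) ℓ t,
    fun k => hF k, fun m => hL m, nonempty_relQ_iso (Sigma.desc (fun k : s => π k)) ℓ t ht⟩

end Gen


lemma isGenerating_coherent (hE : HasCoherentGenerators J) :
    IsGenerating {K : Sh J | IsCoherent K} := by
  rw [isGenerating_iff]
  intro X
  obtain ⟨ι, F, π, hF, hπ⟩ := hE X
  exact ⟨ι, F, π, hF, (epi_sigmaDesc_iff π).1 hπ⟩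

lemma hasQCGenerators_of_coherent (hE : HasCoherentGenerators J) : HasQCGenerators J := by
  intro X
  obtain ⟨ι, F, π, hF, hπ⟩ := hE X
  exact ⟨ι, F, π, fun i => (hF i).1, hπ⟩

section FinColim

variable (S : Set (Sh J))
    (hiso : ∀ ⦃K L : Sh J⦄, K ∈ S → Nonempty (K ≅ L) → L ∈ S)
    (hcolim : ∀ (K : Type) [SmallCategory K] [FinCategory K] (D : K ⥤ Sh J),
      (∀ k, D.obj k ∈ S) → colimit D ∈ S)

include hiso hcolim in
lemma sigma_mem_of_finite {ι₀ : Type u} [Finite ι₀] (F : ι₀ → Sh J) (hF : ∀ k, F k ∈ S) :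
    ∐ F ∈ S := by
  obtain ⟨n, ⟨e⟩⟩ := Finite.exists_equiv_fin ι₀
  have h1 : ∐ (F ∘ e.symm) ∈ S :=
    hcolim (Discrete (Fin n)) (Discrete.functor (F ∘ e.symm)) (fun k => hF _)
  exact hiso h1 ⟨Sigma.reindex e.symm F⟩

include hcolim in
lemma coequalizer_mem {X₀ X₁ : Sh J} (a b : X₁ ⟶ X₀) (h0 : X₀ ∈ S) (h1 : X₁ ∈ S) :
    coequalizer a b ∈ S := by
  refine hcolim WalkingParallelPair (parallelPair a b) (fun k => ?_)
  cases k
  · exact h1
  · exact h0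

end FinColim


end Helper5.TFin
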