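import Groth.Agent.Lib.Helper5.TFin.Site
import Mathlib.CategoryTheory.Limits.Types.Filtered
import Mathlib.CategoryTheory.Filtered.Basic
import Mathlib.CategoryTheory.Sites.RegularEpi

open CategoryTheory CategoryTheory.Limits Opposite

set_option linter.unusedSectionVars false

namespace Helper5.TFin

universe u w w'

open ToposFin (Sh IsQC IsQCHom IsQSHom IsQS IsCohHom IsCoherent HasQCGenerators IsGenerating
  ClosedUnderPullbacks ClosedUnderEqualizers IsAlgebraic eps IsQCSite)

/-- finitely many morphisms out of `i` in a filtered category can be equalised -/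
lemma exists_common_under {I : Type w} [Category I] [IsFiltered I] (i : I) {κ : Type w'}
    (s : Finset κ) (j : κ → I) (u : ∀ k, i ⟶ j k) :
    ∃ (m : I) (w : i ⟶ m), ∀ k ∈ s, ∃ v : j k ⟶ m, u k ≫ v = w := by
  classical
  induction s using Finset.induction with
  | empty => exact ⟨i, 𝟙 i, by simp⟩
  | insert k₀ s hk₀ ih =>
    obtain ⟨m, w, hv⟩ := ih
    let l := IsFiltered.leftToMax m (j k₀)
    let r := IsFiltered.rightToMax m (j k₀)
    let c := IsFiltered.coeqHom (w ≫ l) (u k₀ ≫ r)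
    have hc : (w ≫ l) ≫ c = (u k₀ ≫ r) ≫ c := IsFiltered.coeq_condition _ _
    refine ⟨_, (w ≫ l) ≫ c, fun k hk => ?_⟩
    rcases Finset.mem_insert.1 hk with rfl | hk'
    · exact ⟨r ≫ c, by rw [← Category.assoc, hc]⟩
    · obtain ⟨v, hv'⟩ := hv k hk'
      exact ⟨v ≫ l ≫ c, by rw [← Category.assoc, hv', Category.assoc]⟩

variable {C : Type u} [SmallCategory C] {J : GrothendieckTopology C}

section

variable {I : Type u} [SmallCategory I] [IsFiltered I] (D : I ⥤ Sh J)

/-- the concrete colimit cocone in sheaves -/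
noncomputable def concCocone : Cocone D :=
  Sheaf.sheafifyCocone (colimit.cocone (D ⋙ sheafToPresheaf J (Type u)))

noncomputable def concIsColimit : IsColimit (concCocone D) :=
  Sheaf.isColimitSheafifyCocone _ (colimit.isColimit _)

lemma concCocone_ι_hom (i : I) : ((concCocone D).ι.app i).hom =
    colimit.ι (D ⋙ sheafToPresheaf J (Type u)) i ≫
      toSheafify J (colimit (D ⋙ sheafToPresheaf J (Type u))) :=
  Sheaf.sheafifyCocone_ι_app_val _ i

lemma comp_conc_eq_of_comp_colimit_eq {X : Sh J} {i : I} (f f' : X ⟶ D.obj i)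
    (h : f ≫ colimit.ι D i = f' ≫ colimit.ι D i) :
    f ≫ (concCocone D).ι.app i = f' ≫ (concCocone D).ι.app i := by
  have e := colimit.isoColimitCocone_ι_hom ⟨concCocone D, concIsColimit D⟩ i
  rw [← e, ← Category.assoc, h, Category.assoc]

/-- two sections of `D i` with the same image in the colimit become equal locally at a later
stage -/
lemma exists_covering_eq_of_conc_eq {i : I} {U : C} (a a' : (D.obj i).obj.obj (op U))
    (h : ((concCocone D).ι.app i).hom.app (op U) a = ((concCocone D).ι.app i).hom.app (op U) a') :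
    ∃ R ∈ J U, ∀ ⦃V : C⦄ (g : V ⟶ U), R g → ∃ (j : I) (u : i ⟶ j),
      (D.map u).hom.app (op V) ((D.obj i).obj.map g.op a) =
        (D.map u).hom.app (op V) ((D.obj i).obj.map g.op a') := by
  let P := colimit (D ⋙ sheafToPresheaf J (Type u))
  let ι := colimit.ι (D ⋙ sheafToPresheaf J (Type u)) i
  have h' : (toSheafify J P).app (op U) (ι.app (op U) a) =
      (toSheafify J P).app (op U) (ι.app (op U) a') := by
    have e := concCocone_ι_hom D i
    have e1 := congrArg (fun (m : (D.obj i).obj ⟶ _) => m.app (op U) a) e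
    have e2 := congrArg (fun (m : (D.obj i).obj ⟶ _) => m.app (op U) a') e
    simp only at e1 e2
    exact e1.symm.trans (h.trans e2)
  refine ⟨Presheaf.equalizerSieve (F := P) (X := op U) (ι.app (op U) a) (ι.app (op U) a'),
    Presheaf.equalizerSieve_mem J (toSheafify J P) (X := op U) _ _ h', ?_⟩
  intro V g hg
  have hg' : P.map g.op (ι.app (op U) a) = P.map g.op (ι.app (op U) a') := hg
  rw [← NatTrans.naturality_apply, ← NatTrans.naturality_apply] at hg'
  have hcol : IsColimit (((evaluation Cᵒᵖ (Type u)).obj (op V)).mapCocone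
      (colimit.cocone (D ⋙ sheafToPresheaf J (Type u)))) :=
    isColimitOfPreserves _ (colimit.isColimit _)
  obtain ⟨j, u, hu⟩ := (Types.FilteredColimit.isColimit_eq_iff' hcol _ _).1 hg'
  exact ⟨j, u, hu⟩

end

section

variable {I : Type u} [SmallCategory I] [IsFiltered I] (D : I ⥤ Sh J)

lemma je_colimit_ι : JE (fun j => colimit.ι D j) := fun _ _ _ hab =>
  colimit.hom_ext hab

/-- a morphism from a quasi-compact object which dies in a filtered colimit dies at a finite
stage (two-morphism version) -/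
theorem exists_eq_of_isQC {X : Sh J} (hX : IsQC X) {i : I} (f f' : X ⟶ D.obj i)
    (h : f ≫ colimit.ι D i = f' ≫ colimit.ι D i) :
    ∃ (j : I) (u : i ⟶ j), f ≫ D.map u = f' ≫ D.map u := by
  have h1 := comp_conc_eq_of_comp_colimit_eq D f f' h
  -- the family of representable pieces on which `f` and `f'` agree at a later stage
  let T := Σ (V : C) (y : X.obj.obj (op V)), {p : Σ j : I, (i ⟶ j) //
    (f ≫ D.map p.2).hom.app (op V) y = (f' ≫ D.map p.2).hom.app (op V) y}
  have hje : JE (fun t : T => secHom J X t.2.1) := by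
    rw [je_iff_jls]
    intro U x
    obtain ⟨R, hR, hRg⟩ := exists_covering_eq_of_conc_eq D (f.hom.app (op U) x)
      (f'.hom.app (op U) x) (sec_congr h1 (op U) x)
    refine J.superset_covering ?_ hR
    intro V g hg
    obtain ⟨j, u, hu⟩ := hRg g hg
    refine ⟨⟨V, X.obj.map g.op x, ⟨⟨j, u⟩, ?_⟩⟩, etaSec J V, secHom_eta J X _⟩
    rw [sec_comp, sec_comp, hom_map_sec J f g x, hom_map_sec J f' g x]
    exact hu
  obtain ⟨s, hs⟩ := exists_finset_of_isQC hX _ hje
  obtain ⟨m, w, hv⟩ := exists_common_under i s (fun t : T => t.2.2.1.1) (fun t => t.2.2.1.2)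
  refine ⟨m, w, hs _ _ (fun t => ?_)⟩
  obtain ⟨v, hv'⟩ := hv t.1 t.2
  have ht : secHom J X t.1.2.1 ≫ f ≫ D.map t.1.2.2.1.2 =
      secHom J X t.1.2.1 ≫ f' ≫ D.map t.1.2.2.1.2 := by
    apply eps_hom_ext
    rw [sec_comp (secHom J X _) (f ≫ _), sec_comp (secHom J X _) (f' ≫ _), secHom_eta]
    exact t.1.2.2.2
  dsimp only
  rw [← hv', D.map_comp]
  simp only [← Category.assoc]
  rw [Category.assoc (secHom J X _) f, Category.assoc (secHom J X _) f', ht]

end


section Post

variable {I : Type u} [SmallCategory I] [IsFiltered I] (D : I ⥤ Sh J) (X : Sh J)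

lemma post_ι_apply (j : I) (f : X ⟶ D.obj j) :
    (colimit.post D (coyoneda.obj (op X))) (colimit.ι (D ⋙ coyoneda.obj (op X)) j f) =
      f ≫ colimit.ι D j := by
  have h := colimit.ι_post D (coyoneda.obj (op X)) j
  exact ConcreteCategory.congr_hom h f

/-- `Hom(X, -)` is injective on filtered colimits, in elementary terms -/
def HInj (X : Sh J) : Prop :=
  ∀ (I : Type u) [SmallCategory I] [IsFiltered I] (D : I ⥤ Sh J) (i : I) (f f' : X ⟶ D.obj i),
    f ≫ colimit.ι D i = f' ≫ colimit.ι D i → ∃ (j : I) (u : i ⟶ j), f ≫ D.map u = f' ≫ D.map u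

/-- `Hom(X, -)` is surjective on filtered colimits, in elementary terms -/
def HSurj (X : Sh J) : Prop :=
  ∀ (I : Type u) [SmallCategory I] [IsFiltered I] (D : I ⥤ Sh J) (φ : X ⟶ colimit D),
    ∃ (j : I) (g : X ⟶ D.obj j), g ≫ colimit.ι D j = φ

end Post

lemma hInj_iff (X : Sh J) : HInj X ↔
    ∀ (I : Type u) [SmallCategory I] [IsFiltered I] (D : I ⥤ Sh J),
      Function.Injective (colimit.post D (coyoneda.obj (op X))) := by
  constructor
  · intro h I _ _ D a b hab
    obtain ⟨i, f, rfl⟩ := Types.jointly_surjective_of_isColimit (colimit.isColimit _) a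
    obtain ⟨i', f', rfl⟩ := Types.jointly_surjective_of_isColimit (colimit.isColimit _) b
    change (colimit.post D (coyoneda.obj (op X))) (colimit.ι (D ⋙ coyoneda.obj (op X)) i f) =
      (colimit.post D (coyoneda.obj (op X))) (colimit.ι (D ⋙ coyoneda.obj (op X)) i' f') at hab
    rw [post_ι_apply, post_ι_apply] at hab
    let l := IsFiltered.leftToMax i i'
    let r := IsFiltered.rightToMax i i'
    have hab' : (f ≫ D.map l) ≫ colimit.ι D _ = (f' ≫ D.map r) ≫ colimit.ι D _ := by
      rw [Category.assoc, Category.assoc, colimit.w, colimit.w, hab]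
    obtain ⟨m, u, hu⟩ := h I D _ _ _ hab'
    change colimit.ι (D ⋙ coyoneda.obj (op X)) i f = colimit.ι (D ⋙ coyoneda.obj (op X)) i' f'
    rw [Types.FilteredColimit.colimit_eq_iff]
    refine ⟨m, l ≫ u, r ≫ u, ?_⟩
    change f ≫ D.map (l ≫ u) = f' ≫ D.map (r ≫ u)
    rw [D.map_comp, D.map_comp, ← Category.assoc, ← Category.assoc, hu]
  · intro h I _ _ D i f f' hff'
    have h1 : colimit.ι (D ⋙ coyoneda.obj (op X)) i f =
        colimit.ι (D ⋙ coyoneda.obj (op X)) i f' := by
      apply h I D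
      rw [post_ι_apply, post_ι_apply, hff']
    rw [Types.FilteredColimit.colimit_eq_iff] at h1
    obtain ⟨k, a, b, hab⟩ := h1
    change f ≫ D.map a = f' ≫ D.map b at hab
    refine ⟨IsFiltered.coeq a b, a ≫ IsFiltered.coeqHom a b, ?_⟩
    rw [D.map_comp, ← Category.assoc, hab, Category.assoc, ← D.map_comp,
      ← IsFiltered.coeq_condition a b, D.map_comp, ← Category.assoc]

lemma hSurj_iff (X : Sh J) : HSurj X ↔
    ∀ (I : Type u) [SmallCategory I] [IsFiltered I] (D : I ⥤ Sh J),
      Function.Surjective (colimit.post D (coyoneda.obj (op X))) := by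
  constructor
  · intro h I _ _ D φ
    obtain ⟨j, g, hg⟩ := h I D φ
    exact ⟨colimit.ι (D ⋙ coyoneda.obj (op X)) j g, by rw [post_ι_apply, hg]⟩
  · intro h I _ _ D φ
    obtain ⟨a, ha⟩ := h I D φ
    obtain ⟨j, g, rfl⟩ := Types.jointly_surjective_of_isColimit (colimit.isColimit _) a
    refine ⟨j, g, ?_⟩
    rw [← ha]
    exact (post_ι_apply D X j g).symm

theorem hInj_of_isQC {X : Sh J} (hX : IsQC X) : HInj X := fun _ _ _ D _ f f' h =>
  exists_eq_of_isQC D hX f f' h


section CokerPair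

open Classical

variable {ι : Type u} {X : Sh J} {F : ι → Sh J} (π : ∀ i, F i ⟶ X)

/-- the cokernel pair of the map from a finite partial coproduct -/
noncomputable def ckq (s : Finset ι) : (∐ fun i : s => F i) ⟶ X := Sigma.desc (fun i : s => π i)

noncomputable def ckObj (s : Finset ι) : Sh J := pushout (ckq π s) (ckq π s)

noncomputable def ckInl (s : Finset ι) : X ⟶ ckObj π s := pushout.inl _ _

noncomputable def ckInr (s : Finset ι) : X ⟶ ckObj π s := pushout.inr _ _

lemma ck_cond (s : Finset ι) (i : ι) (hi : i ∈ s) : π i ≫ ckInl π s = π i ≫ ckInr π s := by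
  have h : π i = Sigma.ι (fun i : s => F i) ⟨i, hi⟩ ≫ ckq π s := by
    rw [ckq, Sigma.ι_desc]
  rw [h, Category.assoc, Category.assoc]
  exact congrArg (fun m => Sigma.ι (fun i : s => F i) ⟨i, hi⟩ ≫ m)
    (pushout.condition (f := ckq π s) (g := ckq π s))

lemma ck_hom_ext (s : Finset ι) {Z : Sh J} (a b : ckObj π s ⟶ Z)
    (h1 : ckInl π s ≫ a = ckInl π s ≫ b) (h2 : ckInr π s ≫ a = ckInr π s ≫ b) : a = b :=
  pushout.hom_ext h1 h2

noncomputable def ckDesc (s : Finset ι) {Z : Sh J} (a b : X ⟶ Z)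
    (h : ∀ i ∈ s, π i ≫ a = π i ≫ b) : ckObj π s ⟶ Z :=
  pushout.desc a b (by
    apply Sigma.hom_ext
    rintro ⟨i, hi⟩
    rw [ckq, ← Category.assoc, ← Category.assoc, Sigma.ι_desc]
    exact h i hi)

lemma ckInl_desc (s : Finset ι) {Z : Sh J} (a b : X ⟶ Z) (h : ∀ i ∈ s, π i ≫ a = π i ≫ b) :
    ckInl π s ≫ ckDesc π s a b h = a := pushout.inl_desc _ _ _

lemma ckInr_desc (s : Finset ι) {Z : Sh J} (a b : X ⟶ Z) (h : ∀ i ∈ s, π i ≫ a = π i ≫ b) :
    ckInr π s ≫ ckDesc π s a b h = b := pushout.inr_desc _ _ _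

noncomputable def ckMap {s s' : Finset ι} (h : s ≤ s') : ckObj π s ⟶ ckObj π s' :=
  ckDesc π s (ckInl π s') (ckInr π s') (fun i hi => ck_cond π s' i (h hi))

/-- the diagram of cokernel pairs -/
noncomputable def ckFunctor : Finset ι ⥤ Sh J where
  obj s := ckObj π s
  map f := ckMap π (leOfHom f)
  map_id s := by
    apply ck_hom_ext
    · rw [ckMap, ckInl_desc, Category.comp_id]
    · rw [ckMap, ckInr_desc, Category.comp_id]
  map_comp f g := by
    apply ck_hom_ext
    · rw [ckMap, ckInl_desc, ← Category.assoc, ckMap, ckInl_desc, ckMap, ckInl_desc]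
    · rw [ckMap, ckInr_desc, ← Category.assoc, ckMap, ckInr_desc, ckMap, ckInr_desc]

/-- the first injection, typed into the functor -/
noncomputable def cInl (s : Finset ι) : X ⟶ (ckFunctor π).obj s := ckInl π s

/-- the second injection, typed into the functor -/
noncomputable def cInr (s : Finset ι) : X ⟶ (ckFunctor π).obj s := ckInr π s

lemma c_cond (s : Finset ι) (i : ι) (hi : i ∈ s) : π i ≫ cInl π s = π i ≫ cInr π s :=
  ck_cond π s i hi

lemma cInl_map {s s' : Finset ι} (f : s ⟶ s') :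
    cInl π s ≫ (ckFunctor π).map f = cInl π s' :=
  ckInl_desc π s (ckInl π s') (ckInr π s') (fun i hi => ck_cond π s' i (leOfHom f hi))

lemma cInr_map {s s' : Finset ι} (f : s ⟶ s') :
    cInr π s ≫ (ckFunctor π).map f = cInr π s' :=
  ckInr_desc π s (ckInl π s') (ckInr π s') (fun i hi => ck_cond π s' i (leOfHom f hi))

lemma cInl_map_assoc {s s' : Finset ι} (f : s ⟶ s') {Z : Sh J}
    (g : (ckFunctor π).obj s' ⟶ Z) :
    cInl π s ≫ (ckFunctor π).map f ≫ g = cInl π s' ≫ g := by
  rw [← Category.assoc, cInl_map]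

lemma cInr_map_assoc {s s' : Finset ι} (f : s ⟶ s') {Z : Sh J}
    (g : (ckFunctor π).obj s' ⟶ Z) :
    cInr π s ≫ (ckFunctor π).map f ≫ g = cInr π s' ≫ g := by
  rw [← Category.assoc, cInr_map]

lemma eq_of_cInl_eq_cInr (s : Finset ι) (h : cInl π s = cInr π s) {Z : Sh J} (a b : X ⟶ Z)
    (hab : ∀ i ∈ s, π i ≫ a = π i ≫ b) : a = b := by
  have h1 : ckInl π s = ckInr π s := h
  rw [← ckInl_desc π s a b hab, h1, ckInr_desc]

theorem isQC_of_hInj (hX : HInj X) : IsQC X := by
  rw [isQC_iff]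
  intro ι F π hπ
  have h0 : cInl π ∅ ≫ colimit.ι (ckFunctor π) ∅ = cInr π ∅ ≫ colimit.ι (ckFunctor π) ∅ := by
    apply hπ
    intro i
    have hle : (∅ : Finset ι) ≤ {i} := Finset.empty_subset _
    rw [← colimit.w (ckFunctor π) (homOfLE hle), cInl_map_assoc, cInr_map_assoc,
      ← Category.assoc, ← Category.assoc, c_cond π {i} i (Finset.mem_singleton_self i)]
  obtain ⟨s, u, hu⟩ := hX (Finset ι) (ckFunctor π) ∅ _ _ h0
  rw [cInl_map, cInr_map] at hu
  exact ⟨s, fun Z a b hab => eq_of_cInl_eq_cInr π s hu a b (fun i hi => hab ⟨i, hi⟩)⟩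

end CokerPair

theorem isQC_iff_hInj (X : Sh J) : IsQC X ↔ HInj X := ⟨hInj_of_isQC, isQC_of_hInj⟩


/-- every epimorphism of the topos is effective -/
lemma effectiveEpi_of_epi {X Y : Sh J} (p : X ⟶ Y) [Epi p] : EffectiveEpi p :=
  (isRegularEpi_iff_effectiveEpi p).1 (IsRegularEpiCategory.regularEpiOfEpi p)

/-- descent along an epimorphism -/
lemma exists_desc_of_epi {K X Z : Sh J} (p : K ⟶ X) [Epi p] (e : K ⟶ Z)
    (h : pullback.fst p p ≫ e = pullback.snd p p ≫ e) : ∃ ψ : X ⟶ Z, p ≫ ψ = e := by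
  have := effectiveEpi_of_epi p
  have w : ∀ {T : Sh J} (g₁ g₂ : T ⟶ K), g₁ ≫ p = g₂ ≫ p → g₁ ≫ e = g₂ ≫ e := by
    intro T g₁ g₂ hg
    have h1 : g₁ = pullback.lift g₁ g₂ hg ≫ pullback.fst p p := (pullback.lift_fst _ _ _).symm
    have h2 : g₂ = pullback.lift g₁ g₂ hg ≫ pullback.snd p p := (pullback.lift_snd _ _ _).symm
    rw [h1, Category.assoc, h, ← Category.assoc, ← h2]
  exact ⟨EffectiveEpi.desc p e w, EffectiveEpi.fac p e w⟩

theorem hSurj_of_isCoherent (hE : HasQCGenerators J) {X : Sh J} (hX : IsCoherent X) :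
    HSurj X := by
  classical
  intro I _ _ D φ
  have h1 : JE (fun j => pullback.snd (colimit.ι D j) φ) := (je_colimit_ι D).pullback' φ
  obtain ⟨κ, G, σ, ρ, hG, hρ⟩ := exists_qc_refinement hE _ h1
  obtain ⟨s, hs⟩ := exists_finset_of_isQC hX.1 _ hρ
  obtain ⟨j, hj⟩ := IsFiltered.sup_objs_exists (s.image σ)
  have hu : ∀ k : s, Nonempty (σ k ⟶ j) := fun k =>
    hj (Finset.mem_image_of_mem σ k.2)
  choose u _ using fun k => (hu k).elim (fun v => (⟨v, trivial⟩ : ∃ _ : σ k ⟶ j, True))
  let p' : (∐ fun k : s => G k) ⟶ X :=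
    Sigma.desc (fun k : s => ρ k ≫ pullback.snd (colimit.ι D (σ k)) φ)
  let q' : (∐ fun k : s => G k) ⟶ D.obj j :=
    Sigma.desc (fun k : s => ρ k ≫ pullback.fst (colimit.ι D (σ k)) φ ≫ D.map (u k))
  have hp' : Epi p' := (epi_sigmaDesc_iff _).2 hs
  have hq : q' ≫ colimit.ι D j = p' ≫ φ := by
    apply Sigma.hom_ext
    intro k
    rw [← Category.assoc, ← Category.assoc, Sigma.ι_desc, Sigma.ι_desc, Category.assoc,
      Category.assoc, Category.assoc, colimit.w, pullback.condition]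
  have hK : IsQC (∐ fun k : s => G k) :=
    isQC_of_finite_JE (Sigma.ι fun k : s => G k)
      (je_of_isColimit (Cofan.mk _ (Sigma.ι fun k : s => G k)) (coproductIsCoproduct _))
      (fun k => hG k)
  have hR : IsQC (pullback p' p') := hX.2 _ _ p' p' hK hK
  have hr : (pullback.fst p' p' ≫ q') ≫ colimit.ι D j = (pullback.snd p' p' ≫ q') ≫ colimit.ι D j := by
    rw [Category.assoc, Category.assoc, hq, ← Category.assoc, ← Category.assoc,
      pullback.condition]
  obtain ⟨j', v, hv⟩ := exists_eq_of_isQC D hR _ _ hr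
  obtain ⟨ψ, hψ⟩ := exists_desc_of_epi p' (q' ≫ D.map v) (by
    rw [← Category.assoc, ← Category.assoc]; exact hv)
  refine ⟨j', ψ, ?_⟩
  rw [← cancel_epi p', ← Category.assoc, hψ, Category.assoc, colimit.w, hq]


end Helper5.TFin
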