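import Groth.Agent.Lib.Helper5.TFin.Alg
import Mathlib.CategoryTheory.Limits.Preserves.Shapes.Pullbacks
import Mathlib.CategoryTheory.Limits.Shapes.Pullback.IsPullback.Basic

open CategoryTheory CategoryTheory.Limits Opposite

set_option linter.unusedSectionVars false

namespace Helper5.TFin

universe u w w'

open ToposFin (Sh IsQC IsQCHom IsQSHom IsQS IsCohHom IsCoherent HasQCGenerators IsGenerating
  ClosedUnderPullbacks ClosedUnderEqualizers IsAlgebraic)

section

variable {C : Type u} [SmallCategory C] {J : GrothendieckTopology C}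

lemma isQCHom_pullback_snd_of_isPullback {P X Y Y' : Sh J} {p₁ : P ⟶ X} {p₂ : P ⟶ Y'}
    {f : X ⟶ Y} {g : Y' ⟶ Y} (sq : IsPullback p₁ p₂ f g) (h : IsQCHom p₂) :
    IsQCHom (pullback.snd f g) := by
  have e : pullback.snd f g = sq.isoPullback.inv ≫ p₂ := by
    rw [IsPullback.isoPullback_inv_snd]
  rw [e]
  exact isQCHom_of_iso_comp sq.isoPullback.symm p₂ h

lemma isQSHom_pullback_snd_of_isPullback {P X Y Y' : Sh J} {p₁ : P ⟶ X} {p₂ : P ⟶ Y'}
    {f : X ⟶ Y} {g : Y' ⟶ Y} (sq : IsPullback p₁ p₂ f g) (h : IsQSHom p₂) :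
    IsQSHom (pullback.snd f g) := by
  have e : pullback.snd f g = sq.isoPullback.inv ≫ p₂ := by
    rw [IsPullback.isoPullback_inv_snd]
  rw [e]
  exact isQSHom_comp _ _ (isQSHom_of_mono _) h

theorem isQCHom_of_cover_of_isPullback (hE : HasQCGenerators J) {X Y : Sh J} (f : X ⟶ Y)
    {ι : Type u} {Yi : ι → Sh J} (g : ∀ i, Yi i ⟶ Y) (hg : JE g) {P : ι → Sh J}
    (p₁ : ∀ i, P i ⟶ X) (p₂ : ∀ i, P i ⟶ Yi i) (sq : ∀ i, IsPullback (p₁ i) (p₂ i) f (g i))
    (h : ∀ i, IsQCHom (p₂ i)) : IsQCHom f :=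
  (isQCHom_iff_of_cover hE f Yi g hg).2 (fun i => isQCHom_pullback_snd_of_isPullback (sq i) (h i))

theorem isQSHom_of_cover_of_isPullback (hE : HasQCGenerators J) {X Y : Sh J} (f : X ⟶ Y)
    {ι : Type u} {Yi : ι → Sh J} (g : ∀ i, Yi i ⟶ Y) (hg : JE g) {P : ι → Sh J}
    (p₁ : ∀ i, P i ⟶ X) (p₂ : ∀ i, P i ⟶ Yi i) (sq : ∀ i, IsPullback (p₁ i) (p₂ i) f (g i))
    (h : ∀ i, IsQSHom (p₂ i)) : IsQSHom f :=
  (isQSHom_iff_of_cover hE f Yi g hg).2 (fun i => isQSHom_pullback_snd_of_isPullback (sq i) (h i))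

end

section Geom

variable {C D : Type u} [SmallCategory C] [SmallCategory D] {J : GrothendieckTopology C}
  {K : GrothendieckTopology D} (F : Sh K ⥤ Sh J) (R : Sh J ⥤ Sh K) (adj : F ⊣ R)

include adj in
lemma JE.map_of_adj {ι : Type w} {X : Sh K} {G : ι → Sh K} {π : ∀ i, G i ⟶ X} (h : JE π) :
    JE (fun i => F.map (π i)) := by
  intro Z a b hab
  apply (adj.homEquiv X Z).injective
  apply h
  intro i
  rw [← adj.homEquiv_naturality_left, ← adj.homEquiv_naturality_left, hab i]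

variable {S : Set (Sh K)}

include adj in
/-- an inverse image functor preserves quasi-compact objects as soon as it does so on generators -/
theorem map_isQC_of_generators (hS : ∀ X ∈ S, IsQC X) (hgen : IsGenerating S)
    (h : ∀ X ∈ S, IsQC (F.obj X)) {X : Sh K} (hX : IsQC X) : IsQC (F.obj X) := by
  obtain ⟨ι, G, π, s, hG, hs⟩ := exists_finite_gen_cover hS hgen hX
  exact isQC_of_finite_JE (fun i : s => F.map (π i)) (hs.map_of_adj F R adj) (fun i => h _ (hG i))

variable [PreservesFiniteLimits F]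

include adj in
/-- an inverse image functor preserves quasi-separated objects as soon as it sends a generating
set of coherent objects to coherent objects -/
theorem map_isQS_of_generators (hE' : HasQCGenerators J) (hS : ∀ X ∈ S, IsCoherent X)
    (hgen : IsGenerating S) (h : ∀ X ∈ S, IsCoherent (F.obj X)) {X : Sh K} (hX : IsQS X) :
    IsQS (F.obj X) := by
  have hFqc : ∀ {T : Sh K}, IsQC T → IsQC (F.obj T) := fun hT =>
    map_isQC_of_generators F R adj (fun X hX => (hS X hX).1) hgen (fun X hX => (h X hX).1) hT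
  obtain ⟨ι, G, π, hG, hπ⟩ := (isGenerating_iff S).1 hgen X
  have hπ' : JE (fun i => F.map (π i)) := hπ.map_of_adj F R adj
  refine isQS_of_cover hE' (fun i => F.obj (G i)) (fun i => F.map (π i)) hπ'
    (fun i => (h _ (hG i)).2) (fun i => ?_)
  refine isQCHom_of_cover_of_isPullback hE' (F.map (π i)) (fun j => F.map (π j)) hπ'
    (fun j => F.map (pullback.fst (π i) (π j))) (fun j => F.map (pullback.snd (π i) (π j)))
    (fun j => (IsPullback.of_hasPullback (π i) (π j)).map F) (fun j => ?_)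
  exact isQCHom_of_isQC_of_isQS _
    (hFqc (hX _ _ _ _ (hS _ (hG i)).1 (hS _ (hG j)).1)) (h _ (hG j)).2

include adj in
theorem map_isQCHom (hqc : ∀ X ∈ S, IsQC X) (hgen : IsGenerating S)
    (hpb : ClosedUnderPullbacks S) (hE' : HasQCGenerators J)
    (hFqc : ∀ X : Sh K, IsQC X → IsQC (F.obj X)) (hFqs : ∀ X : Sh K, IsQS X → IsQS (F.obj X))
    {X Y : Sh K} (v : X ⟶ Y) (hv : IsQCHom v) : IsQCHom (F.map v) := by
  obtain ⟨ι, G, π, hG, hπ⟩ := (isGenerating_iff S).1 hgen Y
  have hπ' : JE (fun i => F.map (π i)) := hπ.map_of_adj F R adj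
  refine isQCHom_of_cover_of_isPullback hE' (F.map v) (fun i => F.map (π i)) hπ'
    (fun i => F.map (pullback.fst v (π i))) (fun i => F.map (pullback.snd v (π i)))
    (fun i => (IsPullback.of_hasPullback v (π i)).map F) (fun i => ?_)
  exact isQCHom_of_isQC_of_isQS _ (hFqc _ (hv _ (π i) (hqc _ (hG i))))
    (hFqs _ (isCoherent_of_mem hqc hgen hpb (hG i)).2)

end Geom

end Helper5.TFin
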