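import Groth.Agent.Lib.Helper5.TFin.Map

open CategoryTheory CategoryTheory.Limits Opposite

set_option linter.unusedSectionVars false

namespace Helper5.TFin

universe u w w'

variable {C : Type u} [SmallCategory C] {J : GrothendieckTopology C}

open ToposFin (Sh IsQC IsQCHom IsQSHom IsQS IsCohHom IsCoherent HasQCGenerators)

/-- if `T` has a finite cover by objects over which the pullback of `f` is quasi-compact, then
the pullback of `f` to `T` is quasi-compact -/
lemma isQC_pullback_of_finite_cover {X Y T : Sh J} (f : X ⟶ Y) (t : T ⟶ Y) {κ : Type w} [Finite κ]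
    {G : κ → Sh J} (ρ : ∀ k, G k ⟶ T) (hρ : JE ρ) (h : ∀ k, IsQC (pullback f (ρ k ≫ t))) :
    IsQC (pullback f t) := by
  have h1 : JE (fun k => pullback.snd (ρ k) (pullback.snd f t)) := hρ.pullback' _
  refine isQC_of_finite_JE _ h1 (fun k => ?_)
  have sq := (IsPullback.of_hasPullback (ρ k) (pullback.snd f t)).flip.paste_horiz
    (IsPullback.of_hasPullback f t)
  exact isQC_of_iso sq.isoPullback.symm (h k)

/-- quasi-compactness of morphisms can be tested on a generating family of quasi-compacts -/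
theorem isQCHom_iff_of_generators {α : Type u} (G : α → Sh J) (hG : ∀ a, IsQC (G a))
    (hgen : ∀ X : Sh J, ∃ (ι : Type u) (a : ι → α) (π : ∀ i, G (a i) ⟶ X), Epi (Sigma.desc π))
    {X Y : Sh J} (f : X ⟶ Y) :
    IsQCHom f ↔ ∀ (a : α) (s : G a ⟶ Y), IsQC (pullback f s) := by
  constructor
  · intro h a s
    exact h _ s (hG a)
  · intro h T t hT
    obtain ⟨ι, a, π, hπ⟩ := hgen T
    rw [epi_sigmaDesc_iff] at hπ
    obtain ⟨s₀, hs₀⟩ := exists_finset_of_isQC hT π hπ
    exact isQC_pullback_of_finite_cover f t (fun i : s₀ => π i) hs₀ (fun i => h _ _)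

lemma hasQCGenerators_iff : HasQCGenerators J ↔
    ∀ X : Sh J, ∃ (ι : Type u) (F : ι → Sh J) (π : ∀ i, F i ⟶ X), (∀ i, IsQC (F i)) ∧ JE π := by
  constructor
  · intro h X
    obtain ⟨ι, F, π, hF, hπ⟩ := h X
    exact ⟨ι, F, π, hF, (epi_sigmaDesc_iff π).1 hπ⟩
  · intro h X
    obtain ⟨ι, F, π, hF, hπ⟩ := h X
    exact ⟨ι, F, π, hF, (epi_sigmaDesc_iff π).2 hπ⟩

/-- refine a jointly epimorphic family by quasi-compact objects -/
lemma exists_qc_refinement (hE : HasQCGenerators J) {T : Sh J} {ι : Type u} {F : ι → Sh J}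
    (π : ∀ i, F i ⟶ T) (hπ : JE π) :
    ∃ (κ : Type u) (G : κ → Sh J) (σ : κ → ι) (ρ : ∀ k, G k ⟶ F (σ k)),
      (∀ k, IsQC (G k)) ∧ JE (fun k => ρ k ≫ π (σ k)) := by
  rw [hasQCGenerators_iff] at hE
  choose κ G ρ hG hρ using fun i => hE (F i)
  refine ⟨Σ i, κ i, fun x => G x.1 x.2, fun x => x.1, fun x => ρ x.1 x.2, fun x => hG x.1 x.2, ?_⟩
  exact hπ.comp ρ hρ

/-- quasi-compactness of morphisms is local on the target -/
theorem isQCHom_iff_of_cover (hE : HasQCGenerators J) {X Y : Sh J} (f : X ⟶ Y) {ι : Type u}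
    (Yi : ι → Sh J) (g : ∀ i, Yi i ⟶ Y) (hg : JE g) :
    IsQCHom f ↔ ∀ i, IsQCHom (pullback.snd f (g i)) := by
  constructor
  · intro h i
    exact isQCHom_of_isPullback (IsPullback.of_hasPullback f (g i)) h
  · intro h T t hT
    have h1 : JE (fun i => pullback.snd (g i) t) := hg.pullback' t
    obtain ⟨κ, G, σ, ρ, hG, hρ⟩ := exists_qc_refinement hE _ h1
    obtain ⟨s₀, hs₀⟩ := exists_finset_of_isQC hT _ hρ
    refine isQC_pullback_of_finite_cover f t
      (fun k : s₀ => ρ k ≫ pullback.snd (g (σ k)) t) hs₀ (fun k => ?_)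
    -- the composite to `Y` factors through `g (σ k)`
    have hfac : (ρ k ≫ pullback.snd (g (σ k)) t) ≫ t =
        (ρ k ≫ pullback.fst (g (σ k)) t) ≫ g (σ k) := by
      rw [Category.assoc, Category.assoc, pullback.condition]
    refine isQC_of_iso (pullback.congrHom (rfl : f = f) hfac).symm ?_
    have sq := (IsPullback.of_hasPullback (pullback.snd f (g (σ k)))
      (ρ k ≫ pullback.fst (g (σ k)) t)).paste_horiz (IsPullback.of_hasPullback f (g (σ k)))
    have hq : IsQC (pullback (pullback.snd f (g (σ k))) (ρ k ≫ pullback.fst (g (σ k)) t)) :=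
      h (σ k) _ _ (hG k)
    exact isQC_of_iso sq.isoPullback hq

/-- for a pullback square, `P ×_{Y'} P` is the pullback of `X ×_Y X` along `Y' ⟶ Y` -/
lemma isPullback_diagonalObj_of_isPullback {P X Y Y' : Sh J} {p₁ : P ⟶ X} {p₂ : P ⟶ Y'}
    {f : X ⟶ Y} {g : Y' ⟶ Y} (sq : IsPullback p₁ p₂ f g) :
    IsPullback (pullback.map p₂ p₂ f f p₁ p₁ g sq.w.symm sq.w.symm)
      (pullback.fst p₂ p₂ ≫ p₂) (pullback.fst f f ≫ f) g := by
  have hm1 : ∀ (V : Cᵒᵖ) (r : (pullback p₂ p₂).obj.obj V),
      (pullback.fst f f).hom.app V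
        ((pullback.map p₂ p₂ f f p₁ p₁ g sq.w.symm sq.w.symm).hom.app V r) =
      p₁.hom.app V ((pullback.fst p₂ p₂).hom.app V r) :=
    fun V r => sec_congr (pullback.lift_fst _ _ _) V r
  have hm2 : ∀ (V : Cᵒᵖ) (r : (pullback p₂ p₂).obj.obj V),
      (pullback.snd f f).hom.app V
        ((pullback.map p₂ p₂ f f p₁ p₁ g sq.w.symm sq.w.symm).hom.app V r) =
      p₁.hom.app V ((pullback.snd p₂ p₂).hom.app V r) :=
    fun V r => sec_congr (pullback.lift_snd _ _ _) V r
  apply isPullback_of_sections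
  · rw [← Category.assoc, pullback.lift_fst, Category.assoc, Category.assoc, sq.w]
  · intro V w₀ y' hw
    have hw' : f.hom.app V ((pullback.fst f f).hom.app V w₀) = g.hom.app V y' := hw
    have hc := pullback_sec_condition f f V w₀
    obtain ⟨q₁, hq₁a, hq₁b⟩ := exists_section_of_isPullback sq V _ y' hw'
    obtain ⟨q₂, hq₂a, hq₂b⟩ := exists_section_of_isPullback sq V
      ((pullback.snd f f).hom.app V w₀) y' (by rw [← hc, hw'])
    obtain ⟨r, hr1, hr2⟩ := exists_section_of_isPullback (IsPullback.of_hasPullback p₂ p₂) V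
      q₁ q₂ (by rw [hq₁b, hq₂b])
    refine ⟨r, ?_, ?_⟩
    · apply pullback_sec_ext
      · rw [hm1, hr1, hq₁a]
      · rw [hm2, hr2, hq₂a]
    · rw [sec_comp, hr1, hq₁b]
  · intro V r r' h1 h2
    have h2' : p₂.hom.app V ((pullback.fst p₂ p₂).hom.app V r) =
        p₂.hom.app V ((pullback.fst p₂ p₂).hom.app V r') := h2
    apply pullback_sec_ext
    · apply section_ext_of_isPullback sq V
      · rw [← hm1, ← hm1, h1]
      · exact h2'
    · apply section_ext_of_isPullback sq V
      · rw [← hm2, ← hm2, h1]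
      · rw [← pullback_sec_condition p₂ p₂ V r, ← pullback_sec_condition p₂ p₂ V r', h2']

/-- quasi-separatedness of morphisms is local on the target -/
theorem isQSHom_iff_of_cover (hE : HasQCGenerators J) {X Y : Sh J} (f : X ⟶ Y) {ι : Type u}
    (Yi : ι → Sh J) (g : ∀ i, Yi i ⟶ Y) (hg : JE g) :
    IsQSHom f ↔ ∀ i, IsQSHom (pullback.snd f (g i)) := by
  constructor
  · intro h i
    exact isQSHom_of_isPullback (IsPullback.of_hasPullback f (g i)) h
  · intro h
    -- cover of `X ×_Y X`
    have sqi := fun i => IsPullback.of_hasPullback f (g i)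
    have hcov : JE (fun i => pullback.map (pullback.snd f (g i)) (pullback.snd f (g i)) f f
        (pullback.fst f (g i)) (pullback.fst f (g i)) (g i) (sqi i).w.symm (sqi i).w.symm) :=
      hg.pullback (pullback.fst f f ≫ f) _ _ _
        (fun i => (isPullback_diagonalObj_of_isPullback (sqi i)).flip)
    change IsQCHom (pullback.diagonal f)
    rw [isQCHom_iff_of_cover hE (pullback.diagonal f) _ _ hcov]
    intro i
    have sqd := isPullback_diagonal_of_isPullback (sqi i)
    -- `pullback.snd` of the chosen pullback differs from the diagonal by an isomorphism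
    have he : sqd.isoPullback.inv ≫ pullback.diagonal (pullback.snd f (g i)) =
        pullback.snd (pullback.diagonal f) _ := by
      rw [Iso.inv_comp_eq]
      exact (sqd.isoPullback_hom_snd).symm
    rw [← he]
    exact isQCHom_comp _ _ (isQCHom_of_isIso sqd.isoPullback.inv) (h i)

end Helper5.TFin
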