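import Groth.Agent.Lib.Helper5.TFin.Pb2

open CategoryTheory CategoryTheory.Limits Opposite

set_option linter.unusedSectionVars false

namespace Helper5.TFin

universe u w w'

variable {C : Type u} [SmallCategory C] {J : GrothendieckTopology C}

open ToposFin (Sh IsQC IsQCHom IsQSHom IsQS IsCohHom IsCoherent)

section decomp

variable {X Y X' Y' S : Sh J} (f : X ⟶ Y) (f' : X' ⟶ Y') (a : Y ⟶ S) (a' : Y' ⟶ S)

/-- first factor of `f ×_S f'` -/
noncomputable def mapFst : pullback (f ≫ a) (f' ≫ a') ⟶ pullback a (f' ≫ a') :=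
  pullback.lift (pullback.fst _ _ ≫ f) (pullback.snd _ _)
    (by rw [Category.assoc]; exact pullback.condition)

/-- second factor of `f ×_S f'` -/
noncomputable def mapSnd : pullback a (f' ≫ a') ⟶ pullback a a' :=
  pullback.lift (pullback.fst _ _) (pullback.snd _ _ ≫ f')
    (by rw [Category.assoc]; exact pullback.condition)

lemma map_eq_mapFst_mapSnd :
    pullback.map (f ≫ a) (f' ≫ a') a a' f f' (𝟙 S) (Category.comp_id _)
      (Category.comp_id _) = mapFst f f' a a' ≫ mapSnd f' a a' := by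
  apply pullback.hom_ext
  · rw [pullback.lift_fst, Category.assoc, mapSnd, pullback.lift_fst, mapFst, pullback.lift_fst]
  · rw [pullback.lift_snd, Category.assoc, mapSnd, pullback.lift_snd, ← Category.assoc, mapFst,
      pullback.lift_snd]

lemma isPullback_mapFst :
    IsPullback (pullback.fst (f ≫ a) (f' ≫ a')) (mapFst f f' a a') f
      (pullback.fst a (f' ≫ a')) := by
  have s : IsPullback (pullback.fst (f ≫ a) (f' ≫ a'))
      (mapFst f f' a a' ≫ pullback.snd a (f' ≫ a')) (f ≫ a) (f' ≫ a') := by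
    rw [mapFst, pullback.lift_snd]
    exact IsPullback.of_hasPullback _ _
  exact IsPullback.of_bot s (pullback.lift_fst _ _ _).symm (IsPullback.of_hasPullback _ _)

lemma isPullback_mapSnd :
    IsPullback (mapSnd f' a a') (pullback.snd a (f' ≫ a')) (pullback.snd a a') f' := by
  have s : IsPullback (mapSnd f' a a' ≫ pullback.fst a a') (pullback.snd a (f' ≫ a')) a
      (f' ≫ a') := by
    rw [mapSnd, pullback.lift_fst]
    exact IsPullback.of_hasPullback _ _
  exact IsPullback.of_right s (pullback.lift_snd _ _ _) (IsPullback.of_hasPullback _ _)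

end decomp

/-- the fibre product of two jointly epimorphic families is jointly epimorphic -/
lemma JE.pullback_map {ι : Type w} {ι' : Type w'} {X X' S : Sh J} {F : ι → Sh J} {F' : ι' → Sh J}
    {g : ∀ i, F i ⟶ X} {g' : ∀ j, F' j ⟶ X'} (hg : JE g) (hg' : JE g') (a : X ⟶ S) (a' : X' ⟶ S) :
    JE (fun p : ι × ι' => pullback.map (g p.1 ≫ a) (g' p.2 ≫ a') a a' (g p.1) (g' p.2) (𝟙 S)
      (Category.comp_id _) (Category.comp_id _)) := by
  have h2 : JE (fun j => mapSnd (g' j) a a') :=
    hg'.pullback (pullback.snd a a') _ _ _ (fun j => (isPullback_mapSnd (g' j) a a').flip)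
  have h1 : ∀ j, JE (fun i => mapFst (g i) (g' j) a a') := fun j =>
    hg.pullback (pullback.fst a (g' j ≫ a')) _ _ _ (fun i => isPullback_mapFst (g i) (g' j) a a')
  have h3 := h2.comp (fun j i => mapFst (g i) (g' j) a a') h1
  intro Z u v huv
  apply h3
  rintro ⟨j, i⟩
  have := huv (i, j)
  simp only [map_eq_mapFst_mapSnd] at this
  exact this

/-- a class of morphisms stable under base change and composition is stable under fibre
products of morphisms -/
lemma pullback_map_of_stable (P : ∀ ⦃X Y : Sh J⦄, (X ⟶ Y) → Prop)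
    (hbc : ∀ ⦃Q X Y Y' : Sh J⦄ ⦃p₁ : Q ⟶ X⦄ ⦃p₂ : Q ⟶ Y'⦄ ⦃f : X ⟶ Y⦄ ⦃g : Y' ⟶ Y⦄,
      IsPullback p₁ p₂ f g → P f → P p₂)
    (hcomp : ∀ ⦃X Y Z : Sh J⦄ (f : X ⟶ Y) (g : Y ⟶ Z), P f → P g → P (f ≫ g))
    {X Y X' Y' S : Sh J} (f : X ⟶ Y) (f' : X' ⟶ Y') (a : Y ⟶ S) (a' : Y' ⟶ S)
    (hf : P f) (hf' : P f') :
    P (pullback.map (f ≫ a) (f' ≫ a') a a' f f' (𝟙 S) (Category.comp_id _)
      (Category.comp_id _)) := by
  let m₁ : pullback (f ≫ a) (f' ≫ a') ⟶ pullback a (f' ≫ a') :=
    pullback.lift (pullback.fst _ _ ≫ f) (pullback.snd _ _)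
      (by rw [Category.assoc]; exact pullback.condition)
  let m₂ : pullback a (f' ≫ a') ⟶ pullback a a' :=
    pullback.lift (pullback.fst _ _) (pullback.snd _ _ ≫ f')
      (by rw [Category.assoc]; exact pullback.condition)
  have hM : pullback.map (f ≫ a) (f' ≫ a') a a' f f' (𝟙 S) (Category.comp_id _)
      (Category.comp_id _) = m₁ ≫ m₂ := by
    apply pullback.hom_ext
    · rw [pullback.lift_fst, Category.assoc, pullback.lift_fst, pullback.lift_fst]
    · rw [pullback.lift_snd, Category.assoc, pullback.lift_snd, ← Category.assoc,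
        pullback.lift_snd]
  rw [hM]
  apply hcomp
  · have s : IsPullback (pullback.fst (f ≫ a) (f' ≫ a')) (m₁ ≫ pullback.snd a (f' ≫ a'))
        (f ≫ a) (f' ≫ a') := by
      rw [pullback.lift_snd]
      exact IsPullback.of_hasPullback _ _
    have sq₁ : IsPullback (pullback.fst (f ≫ a) (f' ≫ a')) m₁ f (pullback.fst a (f' ≫ a')) :=
      IsPullback.of_bot s (pullback.lift_fst _ _ _).symm (IsPullback.of_hasPullback _ _)
    exact hbc sq₁ hf
  · have s : IsPullback (m₂ ≫ pullback.fst a a') (pullback.snd a (f' ≫ a')) a (f' ≫ a') := by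
      rw [pullback.lift_fst]
      exact IsPullback.of_hasPullback _ _
    have sq₂ : IsPullback m₂ (pullback.snd a (f' ≫ a')) (pullback.snd a a') f' :=
      IsPullback.of_right s (pullback.lift_snd _ _ _) (IsPullback.of_hasPullback _ _)
    exact hbc sq₂.flip hf'

theorem pullback_map_stable {X Y X' Y' S : Sh J} (f : X ⟶ Y) (f' : X' ⟶ Y') (a : Y ⟶ S)
    (a' : Y' ⟶ S) :
    (IsQCHom f → IsQCHom f' →
      IsQCHom (pullback.map (f ≫ a) (f' ≫ a') a a' f f' (𝟙 S) (Category.comp_id _)
        (Category.comp_id _))) ∧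
    (IsQSHom f → IsQSHom f' →
      IsQSHom (pullback.map (f ≫ a) (f' ≫ a') a a' f f' (𝟙 S) (Category.comp_id _)
        (Category.comp_id _))) ∧
    (IsCohHom f → IsCohHom f' →
      IsCohHom (pullback.map (f ≫ a) (f' ≫ a') a a' f f' (𝟙 S) (Category.comp_id _)
        (Category.comp_id _))) := by
  refine ⟨?_, ?_, ?_⟩
  · exact pullback_map_of_stable (fun _ _ f => IsQCHom f)
      (fun _ _ _ _ _ _ _ _ sq hf => isQCHom_of_isPullback sq hf)
      (fun _ _ _ f g => isQCHom_comp f g) f f' a a'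
  · exact pullback_map_of_stable (fun _ _ f => IsQSHom f)
      (fun _ _ _ _ _ _ _ _ sq hf => isQSHom_of_isPullback sq hf)
      (fun _ _ _ f g => isQSHom_comp f g) f f' a a'
  · exact pullback_map_of_stable (fun _ _ f => IsCohHom f)
      (fun _ _ _ _ _ _ _ _ sq hf => isCohHom_of_isPullback sq hf)
      (fun _ _ _ f g => isCohHom_comp f g) f f' a a'

end Helper5.TFin
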