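import Groth.Agent.Lib.Helper5.TFin.QC

open CategoryTheory CategoryTheory.Limits Opposite

set_option linter.unusedSectionVars false

namespace Helper5.TFin

universe u w w'

variable {C : Type u} [SmallCategory C] {J : GrothendieckTopology C}

open ToposFin (Sh IsQC IsQCHom IsQSHom IsQS IsCohHom IsCoherent)

/-- a morphism of sheaves of sets which is bijective on sections is an isomorphism -/
lemma isIso_of_bijective_sections {X Y : Sh J} (c : X ⟶ Y)
    (h : ∀ V : Cᵒᵖ, Function.Bijective (c.hom.app V)) : IsIso c := by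
  have h1 : ∀ V : Cᵒᵖ, IsIso (c.hom.app V) := fun V => (isIso_iff_bijective _).2 (h V)
  have h2 : IsIso c.hom := NatIso.isIso_of_isIso_app c.hom
  have h3 : IsIso ((sheafToPresheaf J (Type u)).map c) := h2
  exact isIso_of_reflects_iso c (sheafToPresheaf J (Type u))

/-- recognising pullback squares of sheaves of sets on sections -/
lemma isPullback_of_sections {P A B X : Sh J} (p₁ : P ⟶ A) (p₂ : P ⟶ B) (f : A ⟶ X) (g : B ⟶ X)
    (w : p₁ ≫ f = p₂ ≫ g)
    (hex : ∀ (V : Cᵒᵖ) (a : A.obj.obj V) (b : B.obj.obj V), f.hom.app V a = g.hom.app V b →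
      ∃ p : P.obj.obj V, p₁.hom.app V p = a ∧ p₂.hom.app V p = b)
    (huniq : ∀ (V : Cᵒᵖ) (p p' : P.obj.obj V), p₁.hom.app V p = p₁.hom.app V p' →
      p₂.hom.app V p = p₂.hom.app V p' → p = p') :
    IsPullback p₁ p₂ f g := by
  let c : P ⟶ pullback f g := pullback.lift p₁ p₂ w
  have hc1 : c ≫ pullback.fst f g = p₁ := pullback.lift_fst _ _ _
  have hc2 : c ≫ pullback.snd f g = p₂ := pullback.lift_snd _ _ _
  have hc1' : ∀ (V : Cᵒᵖ) (p : P.obj.obj V),
      (pullback.fst f g).hom.app V (c.hom.app V p) = p₁.hom.app V p := by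
    intro V p
    rw [← hc1]; rfl
  have hc2' : ∀ (V : Cᵒᵖ) (p : P.obj.obj V),
      (pullback.snd f g).hom.app V (c.hom.app V p) = p₂.hom.app V p := by
    intro V p
    rw [← hc2]; rfl
  have sq0 := IsPullback.of_hasPullback f g
  have : IsIso c := by
    apply isIso_of_bijective_sections
    intro V
    constructor
    · intro p p' hpp'
      apply huniq V
      · rw [← hc1', ← hc1', hpp']
      · rw [← hc2', ← hc2', hpp']
    · intro q
      have hq : f.hom.app V ((pullback.fst f g).hom.app V q) =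
          g.hom.app V ((pullback.snd f g).hom.app V q) := by
        have := congrArg (fun t : pullback f g ⟶ X => t.hom.app V q) sq0.w
        exact this
      obtain ⟨p, hp1, hp2⟩ := hex V _ _ hq
      refine ⟨p, ?_⟩
      apply section_ext_of_isPullback sq0 V
      · rw [hc1', hp1]
      · rw [hc2', hp2]
  exact IsPullback.of_iso_pullback ⟨w⟩ (asIso c) hc1 hc2

lemma sec_comp {A B D : Sh J} (φ : A ⟶ B) (ψ : B ⟶ D) (V : Cᵒᵖ) (s : A.obj.obj V) :
    (φ ≫ ψ).hom.app V s = ψ.hom.app V (φ.hom.app V s) := rfl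

lemma sec_id {A : Sh J} (V : Cᵒᵖ) (s : A.obj.obj V) : (𝟙 A : A ⟶ A).hom.app V s = s := rfl

lemma sec_congr {A B : Sh J} {φ ψ : A ⟶ B} (h : φ = ψ) (V : Cᵒᵖ) (s : A.obj.obj V) :
    φ.hom.app V s = ψ.hom.app V s := by rw [h]

/-- sections of a chosen pullback are determined by their projections -/
lemma pullback_sec_ext {A B X : Sh J} (f : A ⟶ X) (g : B ⟶ X) (V : Cᵒᵖ)
    (p p' : (pullback f g).obj.obj V)
    (h₁ : (pullback.fst f g).hom.app V p = (pullback.fst f g).hom.app V p')
    (h₂ : (pullback.snd f g).hom.app V p = (pullback.snd f g).hom.app V p') : p = p' :=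
  section_ext_of_isPullback (IsPullback.of_hasPullback f g) V p p' h₁ h₂

lemma pullback_sec_condition {A B X : Sh J} (f : A ⟶ X) (g : B ⟶ X) (V : Cᵒᵖ)
    (p : (pullback f g).obj.obj V) :
    f.hom.app V ((pullback.fst f g).hom.app V p) = g.hom.app V ((pullback.snd f g).hom.app V p) :=
  sec_congr pullback.condition V p

lemma pullback_lift_sec_fst {T A B X : Sh J} (f : A ⟶ X) (g : B ⟶ X) (a : T ⟶ A) (b : T ⟶ B)
    (w : a ≫ f = b ≫ g) (V : Cᵒᵖ) (t : T.obj.obj V) :
    (pullback.fst f g).hom.app V ((pullback.lift a b w).hom.app V t) = a.hom.app V t :=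
  sec_congr (pullback.lift_fst a b w) V t

lemma pullback_lift_sec_snd {T A B X : Sh J} (f : A ⟶ X) (g : B ⟶ X) (a : T ⟶ A) (b : T ⟶ B)
    (w : a ≫ f = b ≫ g) (V : Cᵒᵖ) (t : T.obj.obj V) :
    (pullback.snd f g).hom.app V ((pullback.lift a b w).hom.app V t) = b.hom.app V t :=
  sec_congr (pullback.lift_snd a b w) V t

/-- the diagonal of a base change is the base change of the diagonal -/
lemma isPullback_diagonal_of_isPullback {P X Y Y' : Sh J} {p₁ : P ⟶ X} {p₂ : P ⟶ Y'} {f : X ⟶ Y}
    {g : Y' ⟶ Y} (sq : IsPullback p₁ p₂ f g) :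
    IsPullback p₁ (pullback.diagonal p₂) (pullback.diagonal f)
      (pullback.map p₂ p₂ f f p₁ p₁ g sq.w.symm sq.w.symm) := by
  apply isPullback_of_sections
  · apply pullback.hom_ext
    · rw [Category.assoc, Category.assoc, pullback.diagonal_fst, pullback.lift_fst,
        ← Category.assoc, pullback.diagonal_fst, Category.comp_id, Category.id_comp]
    · rw [Category.assoc, Category.assoc, pullback.diagonal_snd, pullback.lift_snd,
        ← Category.assoc, pullback.diagonal_snd, Category.comp_id, Category.id_comp]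
  · intro V a b hab
    have h1 : (pullback.fst f f).hom.app V ((pullback.diagonal f).hom.app V a) = a :=
      sec_congr (pullback.diagonal_fst f) V a
    have h2 : (pullback.snd f f).hom.app V ((pullback.diagonal f).hom.app V a) = a :=
      sec_congr (pullback.diagonal_snd f) V a
    have h3 : (pullback.fst f f).hom.app V
        ((pullback.map p₂ p₂ f f p₁ p₁ g sq.w.symm sq.w.symm).hom.app V b) =
        p₁.hom.app V ((pullback.fst p₂ p₂).hom.app V b) :=
      sec_congr (pullback.lift_fst _ _ _) V b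
    have h4 : (pullback.snd f f).hom.app V
        ((pullback.map p₂ p₂ f f p₁ p₁ g sq.w.symm sq.w.symm).hom.app V b) =
        p₁.hom.app V ((pullback.snd p₂ p₂).hom.app V b) :=
      sec_congr (pullback.lift_snd _ _ _) V b
    rw [← hab, h1] at h3
    rw [← hab, h2] at h4
    have h5 : (pullback.fst p₂ p₂).hom.app V b = (pullback.snd p₂ p₂).hom.app V b := by
      apply section_ext_of_isPullback sq V
      · rw [← h3, ← h4]
      · exact pullback_sec_condition p₂ p₂ V b
    refine ⟨(pullback.fst p₂ p₂).hom.app V b, h3.symm, ?_⟩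
    apply pullback_sec_ext
    · exact sec_congr (pullback.diagonal_fst p₂) V _
    · rw [← h5]
      exact sec_congr (pullback.diagonal_snd p₂) V _
  · intro V p p' _ h
    have := congrArg ((pullback.fst p₂ p₂).hom.app V) h
    rwa [show (pullback.fst p₂ p₂).hom.app V ((pullback.diagonal p₂).hom.app V p) = p from
      sec_congr (pullback.diagonal_fst p₂) V p,
      show (pullback.fst p₂ p₂).hom.app V ((pullback.diagonal p₂).hom.app V p') = p' from
      sec_congr (pullback.diagonal_fst p₂) V p'] at this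

/-- base change of quasi-separated morphisms -/
lemma isQSHom_of_isPullback {P X Y Y' : Sh J} {p₁ : P ⟶ X} {p₂ : P ⟶ Y'} {f : X ⟶ Y} {g : Y' ⟶ Y}
    (sq : IsPullback p₁ p₂ f g) (hf : IsQSHom f) : IsQSHom p₂ :=
  isQCHom_of_isPullback (isPullback_diagonal_of_isPullback sq) hf

lemma isQSHom_of_isPullback' {P X Y Y' : Sh J} {p₁ : P ⟶ X} {p₂ : P ⟶ Y'} {f : X ⟶ Y}
    {g : Y' ⟶ Y} (sq : IsPullback p₁ p₂ f g) (hg : IsQSHom g) : IsQSHom p₁ :=
  isQSHom_of_isPullback sq.flip hg

lemma isQSHom_comp {X Y Z : Sh J} (f : X ⟶ Y) (g : Y ⟶ Z) (hf : IsQSHom f) (hg : IsQSHom g) :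
    IsQSHom (f ≫ g) := by
  have sq := pullback_map_diagonal_isPullback f f g
  have hd : pullback.diagonal f ≫ pullback.map f f (f ≫ g) (f ≫ g) (𝟙 X) (𝟙 X) g
      (Category.id_comp _).symm (Category.id_comp _).symm = pullback.diagonal (f ≫ g) := by
    apply pullback.hom_ext
    · rw [Category.assoc, pullback.lift_fst, pullback.diagonal_fst, ← Category.assoc,
        pullback.diagonal_fst, Category.id_comp]
    · rw [Category.assoc, pullback.lift_snd, pullback.diagonal_snd, ← Category.assoc,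
        pullback.diagonal_snd, Category.id_comp]
  have h1 : IsQCHom (pullback.map f f (f ≫ g) (f ≫ g) (𝟙 X) (𝟙 X) g
      (Category.id_comp _).symm (Category.id_comp _).symm) := isQCHom_of_isPullback sq hg
  have h2 := isQCHom_comp _ _ hf h1
  rw [hd] at h2
  exact h2

lemma isCohHom_comp {X Y Z : Sh J} (f : X ⟶ Y) (g : Y ⟶ Z) (hf : IsCohHom f) (hg : IsCohHom g) :
    IsCohHom (f ≫ g) :=
  ⟨isQCHom_comp f g hf.1 hg.1, isQSHom_comp f g hf.2 hg.2⟩

lemma isCohHom_of_isPullback {P X Y Y' : Sh J} {p₁ : P ⟶ X} {p₂ : P ⟶ Y'} {f : X ⟶ Y}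
    {g : Y' ⟶ Y} (sq : IsPullback p₁ p₂ f g) (hf : IsCohHom f) : IsCohHom p₂ :=
  ⟨isQCHom_of_isPullback sq hf.1, isQSHom_of_isPullback sq hf.2⟩

lemma isCohHom_of_isPullback' {P X Y Y' : Sh J} {p₁ : P ⟶ X} {p₂ : P ⟶ Y'} {f : X ⟶ Y}
    {g : Y' ⟶ Y} (sq : IsPullback p₁ p₂ f g) (hg : IsCohHom g) : IsCohHom p₁ :=
  isCohHom_of_isPullback sq.flip hg

end Helper5.TFin
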