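import Groth.Agent.Lib.Helper5.TFin.FP

open CategoryTheory CategoryTheory.Limits Opposite

set_option linter.unusedSectionVars false

namespace Helper5.TFin

universe u w w'

open ToposFin (Sh IsQC IsQCHom IsQSHom IsQS IsCohHom IsCoherent HasQCGenerators IsGenerating
  ClosedUnderPullbacks ClosedUnderEqualizers IsAlgebraic eps IsQCSite IsFP HasCoherentGenerators)

variable {C : Type u} [SmallCategory C] {J : GrothendieckTopology C}


lemma pb_map_fst {D : Type*} [Category D] {W X Y Z S T : D} (f₁ : W ⟶ S) (f₂ : X ⟶ S)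
    [HasPullback f₁ f₂] (g₁ : Y ⟶ T) (g₂ : Z ⟶ T) [HasPullback g₁ g₂] (i₁ : W ⟶ Y) (i₂ : X ⟶ Z)
    (i₃ : S ⟶ T) (e₁ : f₁ ≫ i₃ = i₁ ≫ g₁) (e₂ : f₂ ≫ i₃ = i₂ ≫ g₂) :
    pullback.map f₁ f₂ g₁ g₂ i₁ i₂ i₃ e₁ e₂ ≫ pullback.fst g₁ g₂ = pullback.fst f₁ f₂ ≫ i₁ :=
  pullback.lift_fst _ _ _

lemma pb_map_snd {D : Type*} [Category D] {W X Y Z S T : D} (f₁ : W ⟶ S) (f₂ : X ⟶ S)
    [HasPullback f₁ f₂] (g₁ : Y ⟶ T) (g₂ : Z ⟶ T) [HasPullback g₁ g₂] (i₁ : W ⟶ Y) (i₂ : X ⟶ Z)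
    (i₃ : S ⟶ T) (e₁ : f₁ ≫ i₃ = i₁ ≫ g₁) (e₂ : f₂ ≫ i₃ = i₂ ≫ g₂) :
    pullback.map f₁ f₂ g₁ g₂ i₁ i₂ i₃ e₁ e₂ ≫ pullback.snd g₁ g₂ = pullback.snd f₁ f₂ ≫ i₂ :=
  pullback.lift_snd _ _ _

section Pres

open Classical

variable {X : Sh J} {ι : Type u} {K : ι → Sh J} (π : ∀ i, K i ⟶ X)
  {μ : ι → ι → Type u} {L : ∀ i i', μ i i' → Sh J}
  (ℓ : ∀ i i' (m : μ i i'), L i i' m ⟶ pullback (π i) (π i'))

/-- the type of relations -/
abbrev PRel (μ : ι → ι → Type u) := Σ (i i' : ι), μ i i'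

/-- generators involved in a finite set of generators and relations -/
noncomputable def gens (w : Finset ι × Finset (PRel μ)) : Finset ι :=
  w.1 ∪ w.2.image (fun x => x.1) ∪ w.2.image (fun x => x.2.1)

lemma gens_mono {w w' : Finset ι × Finset (PRel μ)} (h : w ≤ w') : gens w ⊆ gens w' := by
  intro i hi
  simp only [gens, Finset.mem_union, Finset.mem_image] at hi ⊢
  rcases hi with (hi | ⟨x, hx, rfl⟩) | ⟨x, hx, rfl⟩
  · exact Or.inl (Or.inl (h.1 hi))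
  · exact Or.inl (Or.inr ⟨x, h.2 hx, rfl⟩)
  · exact Or.inr ⟨x, h.2 hx, rfl⟩

lemma src_mem_gens {w : Finset ι × Finset (PRel μ)} {x : PRel μ} (hx : x ∈ w.2) :
    x.1 ∈ gens w := by
  simp only [gens, Finset.mem_union, Finset.mem_image]
  exact Or.inl (Or.inr ⟨x, hx, rfl⟩)

lemma tgt_mem_gens {w : Finset ι × Finset (PRel μ)} {x : PRel μ} (hx : x ∈ w.2) :
    x.2.1 ∈ gens w := by
  simp only [gens, Finset.mem_union, Finset.mem_image]
  exact Or.inr ⟨x, hx, rfl⟩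

lemma mem_gens_of_mem {w : Finset ι × Finset (PRel μ)} {i : ι} (hi : i ∈ w.1) : i ∈ gens w := by
  simp only [gens, Finset.mem_union]
  exact Or.inl (Or.inl hi)

variable (K) in
/-- the coproduct of the generators involved -/
noncomputable abbrev pGen (w : Finset ι × Finset (PRel μ)) : Sh J := ∐ fun i : gens w => K i

/-- the coproduct of the relations involved -/
noncomputable abbrev pRelObj (w : Finset ι × Finset (PRel μ)) : Sh J :=
  ∐ fun x : w.2 => L x.1.1 x.1.2.1 x.1.2.2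

noncomputable def pA (w : Finset ι × Finset (PRel μ)) : pRelObj (L := L) w ⟶ pGen K w :=
  Sigma.desc (fun x : w.2 => (ℓ x.1.1 x.1.2.1 x.1.2.2 ≫ pullback.fst _ _) ≫
    Sigma.ι (fun i : gens w => K i) ⟨x.1.1, src_mem_gens x.2⟩)

noncomputable def pB (w : Finset ι × Finset (PRel μ)) : pRelObj (L := L) w ⟶ pGen K w :=
  Sigma.desc (fun x : w.2 => (ℓ x.1.1 x.1.2.1 x.1.2.2 ≫ pullback.snd _ _) ≫
    Sigma.ι (fun i : gens w => K i) ⟨x.1.2.1, tgt_mem_gens x.2⟩)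

/-- the finitely presented approximation -/
noncomputable abbrev pObj (w : Finset ι × Finset (PRel μ)) : Sh J := coequalizer (pA π ℓ w) (pB π ℓ w)

noncomputable def gInj (w : Finset ι × Finset (PRel μ)) (i : ι) (hi : i ∈ gens w) :
    K i ⟶ pObj π ℓ w :=
  Sigma.ι (fun i : gens w => K i) ⟨i, hi⟩ ≫ coequalizer.π _ _

lemma g_cond (w : Finset ι × Finset (PRel μ)) (x : PRel μ) (hx : x ∈ w.2) :
    (ℓ x.1 x.2.1 x.2.2 ≫ pullback.fst _ _) ≫ gInj π ℓ w x.1 (src_mem_gens hx) =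
      (ℓ x.1 x.2.1 x.2.2 ≫ pullback.snd _ _) ≫ gInj π ℓ w x.2.1 (tgt_mem_gens hx) := by
  have h1 : (ℓ x.1 x.2.1 x.2.2 ≫ pullback.fst _ _) ≫
      Sigma.ι (fun i : gens w => K i) ⟨x.1, src_mem_gens hx⟩ =
      Sigma.ι (fun x : w.2 => L x.1.1 x.1.2.1 x.1.2.2) ⟨x, hx⟩ ≫ pA π ℓ w := by
    simp only [pA, Sigma.ι_desc]
  have h2 : (ℓ x.1 x.2.1 x.2.2 ≫ pullback.snd _ _) ≫
      Sigma.ι (fun i : gens w => K i) ⟨x.2.1, tgt_mem_gens hx⟩ =
      Sigma.ι (fun x : w.2 => L x.1.1 x.1.2.1 x.1.2.2) ⟨x, hx⟩ ≫ pB π ℓ w := by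
    simp only [pB, Sigma.ι_desc]
  rw [gInj, gInj, ← Category.assoc, ← Category.assoc, h1, h2, Category.assoc, Category.assoc]
  exact congrArg (fun k => Sigma.ι (fun x : w.2 => L x.1.1 x.1.2.1 x.1.2.2) ⟨x, hx⟩ ≫ k)
    (coequalizer.condition (pA π ℓ w) (pB π ℓ w))

lemma g_hom_ext (w : Finset ι × Finset (PRel μ)) {Z : Sh J} (a b : pObj π ℓ w ⟶ Z)
    (h : ∀ i (hi : i ∈ gens w), gInj π ℓ w i hi ≫ a = gInj π ℓ w i hi ≫ b) : a = b := by
  apply coequalizer.hom_ext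
  apply Sigma.hom_ext
  rintro ⟨i, hi⟩
  have := h i hi
  simpa only [gInj, Category.assoc] using this

noncomputable def gDesc (w : Finset ι × Finset (PRel μ)) {Z : Sh J}
    (h : ∀ i, i ∈ gens w → (K i ⟶ Z))
    (hc : ∀ x (hx : x ∈ w.2), (ℓ x.1 x.2.1 x.2.2 ≫ pullback.fst _ _) ≫ h x.1 (src_mem_gens hx) =
      (ℓ x.1 x.2.1 x.2.2 ≫ pullback.snd _ _) ≫ h x.2.1 (tgt_mem_gens hx)) : pObj π ℓ w ⟶ Z :=
  coequalizer.desc (Sigma.desc (fun i : gens w => h i.1 i.2)) (by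
    apply Sigma.hom_ext
    rintro ⟨x, hx⟩
    simp only [pA, pB, Sigma.ι_desc_assoc, Sigma.ι_desc, Category.assoc]
    have := hc x hx
    simpa only [Category.assoc] using this)

lemma gInj_desc (w : Finset ι × Finset (PRel μ)) {Z : Sh J}
    (h : ∀ i, i ∈ gens w → (K i ⟶ Z))
    (hc : ∀ x (hx : x ∈ w.2), (ℓ x.1 x.2.1 x.2.2 ≫ pullback.fst _ _) ≫ h x.1 (src_mem_gens hx) =
      (ℓ x.1 x.2.1 x.2.2 ≫ pullback.snd _ _) ≫ h x.2.1 (tgt_mem_gens hx)) (i : ι)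
    (hi : i ∈ gens w) : gInj π ℓ w i hi ≫ gDesc π ℓ w h hc = h i hi := by
  rw [gInj, gDesc, Category.assoc, coequalizer.π_desc, Sigma.ι_desc]

/-- generators and relations in a finite set -/
noncomputable def pr (v : Finset (ι ⊕ PRel μ)) : Finset ι × Finset (PRel μ) :=
  (v.toLeft, v.toRight)

lemma pr_mono {v v' : Finset (ι ⊕ PRel μ)} (h : v ≤ v') : pr v ≤ pr v' :=
  ⟨Finset.toLeft_subset_toLeft h, Finset.toRight_subset_toRight h⟩

/-- the diagram of finitely presented approximations -/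
noncomputable def pFunctor : Finset (ι ⊕ PRel μ) ⥤ Sh J where
  obj v := pObj π ℓ (pr v)
  map {v v'} f := gDesc π ℓ (pr v)
    (fun i hi => gInj π ℓ (pr v') i (gens_mono (pr_mono (leOfHom f)) hi))
    (fun x hx => g_cond π ℓ (pr v') x ((pr_mono (leOfHom f)).2 hx))
  map_id v := by
    apply g_hom_ext
    intro i hi
    rw [gInj_desc, Category.comp_id]
  map_comp {v v' v''} f g := by
    apply g_hom_ext
    intro i hi
    rw [gInj_desc, ← Category.assoc, gInj_desc, gInj_desc]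

/-- the structure maps, typed into the functor -/
noncomputable def pInj (v : Finset (ι ⊕ PRel μ)) (i : ι) (hi : i ∈ gens (pr v)) :
    K i ⟶ (pFunctor π ℓ).obj v := gInj π ℓ (pr v) i hi

lemma pInj_map {v v' : Finset (ι ⊕ PRel μ)} (f : v ⟶ v') (i : ι) (hi : i ∈ gens (pr v)) :
    pInj π ℓ v i hi ≫ (pFunctor π ℓ).map f =
      pInj π ℓ v' i (gens_mono (pr_mono (leOfHom f)) hi) :=
  gInj_desc π ℓ (pr v) _ _ i hi

lemma p_cond (v : Finset (ι ⊕ PRel μ)) (x : PRel μ) (hx : x ∈ (pr v).2) :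
    (ℓ x.1 x.2.1 x.2.2 ≫ pullback.fst _ _) ≫ pInj π ℓ v x.1 (src_mem_gens hx) =
      (ℓ x.1 x.2.1 x.2.2 ≫ pullback.snd _ _) ≫ pInj π ℓ v x.2.1 (tgt_mem_gens hx) :=
  g_cond π ℓ (pr v) x hx

lemma p_hom_ext (v : Finset (ι ⊕ PRel μ)) {Z : Sh J} (a b : (pFunctor π ℓ).obj v ⟶ Z)
    (h : ∀ i (hi : i ∈ gens (pr v)), pInj π ℓ v i hi ≫ a = pInj π ℓ v i hi ≫ b) : a = b :=
  g_hom_ext π ℓ (pr v) a b h

/-- the map to `X` -/
noncomputable def pToX (v : Finset (ι ⊕ PRel μ)) : (pFunctor π ℓ).obj v ⟶ X :=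
  gDesc π ℓ (pr v) (fun i _ => π i) (fun x _ => by
    rw [Category.assoc, Category.assoc, pullback.condition])

lemma pInj_toX (v : Finset (ι ⊕ PRel μ)) (i : ι) (hi : i ∈ gens (pr v)) :
    pInj π ℓ v i hi ≫ pToX π ℓ v = π i := gInj_desc π ℓ (pr v) _ _ i hi

/-- the cocone over `X` -/
noncomputable def pCocone : Cocone (pFunctor π ℓ) where
  pt := X
  ι :=
    { app := fun v => pToX π ℓ v
      naturality := fun v v' f => by
        apply p_hom_ext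
        intro i hi
        rw [← Category.assoc, pInj_map, pInj_toX]
        change _ = pInj π ℓ v i hi ≫ pToX π ℓ v ≫ 𝟙 X
        rw [Category.comp_id, pInj_toX] }

lemma mem_gens_singleton_inl (i : ι) : i ∈ gens (pr ({Sum.inl i} : Finset (ι ⊕ PRel μ))) := by
  apply mem_gens_of_mem
  simp [pr]

lemma mem_pr_singleton_inr (x : PRel μ) : x ∈ (pr ({Sum.inr x} : Finset (ι ⊕ PRel μ))).2 := by
  simp [pr]

section IsColimit

variable (c : Cocone (pFunctor π ℓ))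

/-- the component of a cocone on a generator -/
noncomputable def pκ (i : ι) : K i ⟶ c.pt :=
  pInj π ℓ {Sum.inl i} i (mem_gens_singleton_inl i) ≫ c.ι.app {Sum.inl i}

lemma pInj_comp_app (v : Finset (ι ⊕ PRel μ)) (i : ι) (hi : i ∈ gens (pr v)) :
    pInj π ℓ v i hi ≫ c.ι.app v = pκ π ℓ c i := by
  have h1 : v ≤ v ∪ {Sum.inl i} := Finset.subset_union_left
  have h2 : ({Sum.inl i} : Finset (ι ⊕ PRel μ)) ≤ v ∪ {Sum.inl i} := Finset.subset_union_right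
  rw [pκ, ← c.w (homOfLE h1), ← c.w (homOfLE h2), ← Category.assoc, ← Category.assoc,
    pInj_map, pInj_map]

end IsColimit

variable (hπ : JE π) (hℓ : ∀ i i', JE (ℓ i i'))

include hπ hℓ in
lemma je_kernelPair_cover : JE (fun x : PRel μ => ℓ x.1 x.2.1 x.2.2 ≫
    pullback.map (π x.1) (π x.2.1) (Sigma.desc π) (Sigma.desc π) (Sigma.ι K x.1)
      (Sigma.ι K x.2.1) (𝟙 X) (by simp) (by simp)) := by
  have hι : JE (Sigma.ι K) := je_of_isColimit (Cofan.mk _ (Sigma.ι K)) (coproductIsCoproduct K)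
  have h1 := hι.pullback_map hι (Sigma.desc π) (Sigma.desc π)
  have h2 : JE (fun q : ι × ι => pullback.map (π q.1) (π q.2) (Sigma.desc π) (Sigma.desc π)
      (Sigma.ι K q.1) (Sigma.ι K q.2) (𝟙 X) (by simp) (by simp)) := by
    refine h1.of_factor _ id (fun q => (pullback.congrHom (Sigma.ι_desc π q.1)
      (Sigma.ι_desc π q.2)).hom) (fun q => ?_)
    apply pullback.hom_ext
    · dsimp only [id]
      rw [Category.assoc, pb_map_fst, pb_map_fst, ← Category.assoc, pullback.congrHom_hom,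
        pb_map_fst, Category.comp_id]
    · dsimp only [id]
      rw [Category.assoc, pb_map_snd, pb_map_snd, ← Category.assoc, pullback.congrHom_hom,
        pb_map_snd, Category.comp_id]
  have h3 := h2.comp (fun (q : ι × ι) (m : μ q.1 q.2) => ℓ q.1 q.2 m) (fun q => hℓ q.1 q.2)
  exact h3.reindex (fun x : PRel μ => (⟨(x.1, x.2.1), x.2.2⟩ : Σ q : ι × ι, μ q.1 q.2))
    (fun ⟨⟨i, i'⟩, m⟩ => ⟨⟨i, i', m⟩, rfl⟩)

include hπ hℓ in
/-- `X` is the colimit of its finitely presented approximations -/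
theorem nonempty_isColimit_pCocone : Nonempty (IsColimit (pCocone π ℓ)) := by
  have hp : Epi (Sigma.desc π) := (epi_sigmaDesc_iff π).2 hπ
  have hcov := je_kernelPair_cover π ℓ hπ hℓ
  have key : ∀ c : Cocone (pFunctor π ℓ), ∃ φ : X ⟶ c.pt, ∀ i, π i ≫ φ = pκ π ℓ c i := by
    intro c
    have he : pullback.fst (Sigma.desc π) (Sigma.desc π) ≫ Sigma.desc (pκ π ℓ c) =
        pullback.snd (Sigma.desc π) (Sigma.desc π) ≫ Sigma.desc (pκ π ℓ c) := by
      apply hcov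
      intro x
      have e1 : pullback.map (π x.1) (π x.2.1) (Sigma.desc π) (Sigma.desc π) (Sigma.ι K x.1)
          (Sigma.ι K x.2.1) (𝟙 X) (by simp) (by simp) ≫ pullback.fst _ _ =
          pullback.fst _ _ ≫ Sigma.ι K x.1 := pullback.lift_fst _ _ _
      have e2 : pullback.map (π x.1) (π x.2.1) (Sigma.desc π) (Sigma.desc π) (Sigma.ι K x.1)
          (Sigma.ι K x.2.1) (𝟙 X) (by simp) (by simp) ≫ pullback.snd _ _ =
          pullback.snd _ _ ≫ Sigma.ι K x.2.1 := pullback.lift_snd _ _ _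
      have hc := p_cond π ℓ {Sum.inr x} x (mem_pr_singleton_inr x)
      have hc' := congrArg (fun k => k ≫ c.ι.app {Sum.inr x}) hc
      simp only [Category.assoc, pInj_comp_app] at hc'
      dsimp only
      rw [Category.assoc, Category.assoc, ← Category.assoc (pullback.map _ _ _ _ _ _ _ _ _), e1,
        ← Category.assoc (pullback.map _ _ _ _ _ _ _ _ _), e2, Category.assoc, Category.assoc,
        Sigma.ι_desc, Sigma.ι_desc]
      exact hc'
    obtain ⟨φ, hφ⟩ := exists_desc_of_epi (Sigma.desc π) (Sigma.desc (pκ π ℓ c)) he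
    refine ⟨φ, fun i => ?_⟩
    have := congrArg (fun k => Sigma.ι K i ≫ k) hφ
    simpa using this
  choose φ hφ using key
  refine ⟨{ desc := φ, fac := ?_, uniq := ?_ }⟩
  · intro c v
    apply p_hom_ext
    intro i hi
    change pInj π ℓ v i hi ≫ pToX π ℓ v ≫ φ c = _
    rw [← Category.assoc, pInj_toX, hφ, pInj_comp_app]
  · intro c m hm
    apply hπ
    intro i
    rw [hφ, pκ, ← hm, ← Category.assoc]
    change _ = (pInj π ℓ {Sum.inl i} i (mem_gens_singleton_inl i) ≫ pToX π ℓ {Sum.inl i}) ≫ m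
    rw [pInj_toX]

end Pres

theorem exists_filtered_presentation {S : Set (Sh J)} (hgen : IsGenerating S) (X : Sh J) :
    ∃ (I : Type u) (_ : SmallCategory I) (_ : IsFiltered I) (D : I ⥤ Sh J),
      (∀ i, ∃ (ι₀ : Type u) (_ : Finite ι₀) (K : ι₀ → Sh J) (μ₀ : Type u) (_ : Finite μ₀)
        (L : μ₀ → Sh J) (a b : ∐ L ⟶ ∐ K), (∀ k, K k ∈ S) ∧ (∀ m, L m ∈ S) ∧
          D.obj i = coequalizer a b) ∧ Nonempty (X ≅ colimit D) := by
  classical
  obtain ⟨ι, K, π, hK, hπ⟩ := (isGenerating_iff S).1 hgen X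
  choose μ L ℓ hL hℓ using fun i i' => (isGenerating_iff S).1 hgen (pullback (π i) (π i'))
  obtain ⟨hc⟩ := nonempty_isColimit_pCocone π ℓ hπ hℓ
  refine ⟨Finset (ι ⊕ PRel μ), inferInstance, inferInstance, pFunctor π ℓ, fun v => ?_,
    ⟨((colimit.isColimit (pFunctor π ℓ)).coconePointUniqueUpToIso hc).symm⟩⟩
  exact ⟨gens (pr v), inferInstance, fun i => K i, (pr v).2, inferInstance,
    fun x => L x.1.1 x.1.2.1 x.1.2.2, pA π ℓ (pr v), pB π ℓ (pr v), fun k => hK k,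
    fun m => hL _ _ _, rfl⟩

theorem isFP_iff_retract_coequalizer (hE : HasCoherentGenerators J) (X : Sh J) :
    IsFP X ↔ ∃ (X₀ X₁ : Sh J) (a b : X₁ ⟶ X₀) (i : X ⟶ coequalizer a b)
      (p : coequalizer a b ⟶ X), IsCoherent X₀ ∧ IsCoherent X₁ ∧ i ≫ p = 𝟙 X := by
  have hE' := hasQCGenerators_of_coherent hE
  rw [isFP_iff]
  constructor
  · rintro ⟨hI, hS⟩
    obtain ⟨ι₀, _, K, μ₀, _, L, a, b, i, p, hK, hL, hip⟩ :=
      exists_retract_of_fp (S := {K : Sh J | IsCoherent K}) (fun K hK => hK.1)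
        (isGenerating_coherent hE) hI hS
    exact ⟨∐ K, ∐ L, a, b, i, p, isCoherent_sigma K hK, isCoherent_sigma L hL, hip⟩
  · rintro ⟨X₀, X₁, a, b, i, p, h0, h1, hip⟩
    have hQI : HInj (coequalizer a b) := hInj_of_epi (coequalizer.π a b) (hInj_of_isQC h0.1)
    have hQS : HSurj (coequalizer a b) :=
      hSurj_coequalizer a b (hSurj_of_isCoherent hE' h0) (hInj_of_isQC h1.1)
    exact ⟨hInj_retract i p hip hQI, hSurj_retract i p hip hQS⟩

theorem s5582 (hE : HasCoherentGenerators J) :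
    ((∀ (X₀ X₁ : Sh J) (a b : X₁ ⟶ X₀), IsCoherent X₀ → IsCoherent X₁ →
        IsCoherent (coequalizer a b)) ↔
      (∀ X : Sh J, IsFP X → IsCoherent X)) ∧
    ((∀ X : Sh J, ∃ (I : Type u) (_ : SmallCategory I) (_ : IsFiltered I) (D : I ⥤ Sh J),
        (∀ i, IsCoherent (D.obj i)) ∧ Nonempty (X ≅ colimit D)) ↔
      (∀ X : Sh J, IsFP X → IsCoherent X)) := by
  have hcoeq : ∀ (X₀ X₁ : Sh J) (a b : X₁ ⟶ X₀), IsCoherent X₀ → IsCoherent X₁ →
      IsFP (coequalizer a b) := fun X₀ X₁ a b h0 h1 =>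
    (isFP_iff_retract_coequalizer hE _).2 ⟨X₀, X₁, a, b, 𝟙 _, 𝟙 _, h0, h1, Category.comp_id _⟩
  refine ⟨⟨fun hA X hX => ?_, fun hFP X₀ X₁ a b h0 h1 => hFP _ (hcoeq X₀ X₁ a b h0 h1)⟩,
    ⟨fun hB X hX => ?_, fun hFP X => ?_⟩⟩
  · obtain ⟨X₀, X₁, a, b, i, p, h0, h1, hip⟩ := (isFP_iff_retract_coequalizer hE X).1 hX
    exact isCoherent_retract i p hip (hA X₀ X₁ a b h0 h1)
  · obtain ⟨I, _, _, D, hD, ⟨e⟩⟩ := hB X
    obtain ⟨j, g, hg⟩ := ((isFP_iff X).1 hX).2 I D e.hom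
    exact isCoherent_retract g (colimit.ι D j ≫ e.inv)
      (by rw [← Category.assoc, hg, e.hom_inv_id]) (hD j)
  · obtain ⟨I, _, _, D, hD, hiso⟩ :=
      exists_filtered_presentation (isGenerating_coherent hE) X
    refine ⟨I, inferInstance, inferInstance, D, fun i => ?_, hiso⟩
    obtain ⟨ι₀, _, K, μ₀, _, L, a, b, hK, hL, he⟩ := hD i
    rw [he]
    exact hFP _ (hcoeq _ _ a b (isCoherent_sigma K hK) (isCoherent_sigma L hL))


end Helper5.TFin
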