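import Groth.Agent.Lib.Helper5.TFin.Site
import Mathlib.CategoryTheory.Sites.Pullback

open CategoryTheory CategoryTheory.Limits Opposite

set_option linter.unusedSectionVars false

namespace Helper5.TFin

universe u w w'

open ToposFin (Sh IsQC IsQCHom IsQSHom IsQS IsCohHom IsCoherent HasQCGenerators IsGenerating
  ClosedUnderPullbacks ClosedUnderEqualizers IsAlgebraic eps IsQCSite)

variable {C D : Type u} [SmallCategory C] [SmallCategory D] (J : GrothendieckTopology C)
  (K : GrothendieckTopology D) (G : C ⥤ D) [Functor.IsContinuous G J K]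

/-- sections of a direct image -/
def toPush (H : Sh K) (X : C) (t : H.obj.obj (op (G.obj X))) :
    ((G.sheafPushforwardContinuous (Type u) J K).obj H).obj.obj (op X) := t

/-- sections of a direct image -/
def ofPush (H : Sh K) (X : C)
    (t : ((G.sheafPushforwardContinuous (Type u) J K).obj H).obj.obj (op X)) :
    H.obj.obj (op (G.obj X)) := t

lemma ofPush_toPush (H : Sh K) (X : C) (t : H.obj.obj (op (G.obj X))) :
    ofPush J K G H X (toPush J K G H X t) = t := rfl

lemma toPush_ofPush (H : Sh K) (X : C)
    (t : ((G.sheafPushforwardContinuous (Type u) J K).obj H).obj.obj (op X)) :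
    toPush J K G H X (ofPush J K G H X t) = t := rfl

lemma ofPush_injective (H : Sh K) (X : C) : Function.Injective (ofPush J K G H X) :=
  fun _ _ h => h

lemma push_map_app {H H' : Sh K} (β : H ⟶ H') (X : C)
    (t : ((G.sheafPushforwardContinuous (Type u) J K).obj H).obj.obj (op X)) :
    ofPush J K G H' X (((G.sheafPushforwardContinuous (Type u) J K).map β).hom.app (op X) t) =
      β.hom.app (op (G.obj X)) (ofPush J K G H X t) := rfl

/-- the section of the inverse image of `eps X` over `G X` -/
noncomputable def pullSec (X : C) :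
    ((G.sheafPullback (Type u) J K).obj (eps J X)).obj.obj (op (G.obj X)) :=
  ofPush J K G _ X (((G.sheafAdjunctionContinuous (Type u) J K).unit.app (eps J X)).hom.app
    (op X) (etaSec J X))

noncomputable def pullEpsHom (X : C) :
    (G.sheafPullback (Type u) J K).obj (eps J X) ⟶ eps K (G.obj X) :=
  ((G.sheafAdjunctionContinuous (Type u) J K).homEquiv _ _).symm
    (secHom J ((G.sheafPushforwardContinuous (Type u) J K).obj (eps K (G.obj X)))
      (toPush J K G _ X (etaSec K (G.obj X))))

noncomputable def pullEpsInv (X : C) :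
    eps K (G.obj X) ⟶ (G.sheafPullback (Type u) J K).obj (eps J X) :=
  secHom K _ (pullSec J K G X)

lemma pullEpsHom_pullSec (X : C) :
    (pullEpsHom J K G X).hom.app (op (G.obj X)) (pullSec J K G X) = etaSec K (G.obj X) := by
  have h := Adjunction.homEquiv_unit (G.sheafAdjunctionContinuous (Type u) J K)
    (X := eps J X) (Y := eps K (G.obj X)) (f := pullEpsHom J K G X)
  have h' : ((G.sheafAdjunctionContinuous (Type u) J K).homEquiv _ _) (pullEpsHom J K G X) =
      secHom J ((G.sheafPushforwardContinuous (Type u) J K).obj (eps K (G.obj X)))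
        (toPush J K G _ X (etaSec K (G.obj X))) := Equiv.apply_symm_apply _ _
  rw [h'] at h
  have h2 := sec_congr h (op X) (etaSec J X)
  rw [secHom_eta, sec_comp] at h2
  have h3 := congrArg (ofPush J K G _ X) h2
  rw [ofPush_toPush, push_map_app] at h3
  exact h3.symm

lemma pullEps_inv_hom (X : C) : pullEpsInv J K G X ≫ pullEpsHom J K G X = 𝟙 _ := by
  apply eps_hom_ext
  rw [sec_comp, pullEpsInv, secHom_eta, pullEpsHom_pullSec]
  rfl

lemma pullEps_hom_inv (X : C) : pullEpsHom J K G X ≫ pullEpsInv J K G X = 𝟙 _ := by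
  apply ((G.sheafAdjunctionContinuous (Type u) J K).homEquiv _ _).injective
  rw [Adjunction.homEquiv_naturality_right]
  have h' : ((G.sheafAdjunctionContinuous (Type u) J K).homEquiv _ _) (pullEpsHom J K G X) =
      secHom J ((G.sheafPushforwardContinuous (Type u) J K).obj (eps K (G.obj X)))
        (toPush J K G _ X (etaSec K (G.obj X))) := Equiv.apply_symm_apply _ _
  rw [h', Adjunction.homEquiv_unit, CategoryTheory.Functor.map_id]
  apply eps_hom_ext
  rw [sec_comp, secHom_eta]
  apply ofPush_injective
  rw [push_map_app, ofPush_toPush, pullEpsInv, secHom_eta]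
  rfl

noncomputable def pullEpsIso (X : C) :
    (G.sheafPullback (Type u) J K).obj (eps J X) ≅ eps K (G.obj X) where
  hom := pullEpsHom J K G X
  inv := pullEpsInv J K G X
  hom_inv_id := pullEps_hom_inv J K G X
  inv_hom_id := pullEps_inv_hom J K G X

lemma isCoherent_of_iso {C : Type u} [SmallCategory C] {J : GrothendieckTopology C} {X Y : Sh J}
    (e : X ≅ Y) (h : IsCoherent X) : IsCoherent Y :=
  ⟨isQC_of_iso e h.1, isQS_of_isQSHom e.inv (isQSHom_of_mono _) h.2⟩

lemma isGenerating_range_eps {C : Type u} [SmallCategory C] (J : GrothendieckTopology C) :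
    IsGenerating (Set.range (eps J)) := by
  rw [isGenerating_iff]
  intro F
  exact ⟨Σ U : C, F.obj.obj (op U), fun p => eps J p.1, fun p => secHom J F p.2,
    fun p => ⟨p.1, rfl⟩, je_secHom J F⟩

theorem sheafPullback_isQC_isQS [HasPullbacks C] [HasPullbacks D]
    (hC : ∀ X : C, IsQCSite J X) (hD : ∀ Y : D, IsQCSite K Y)
    [PreservesFiniteLimits (G.sheafPullback (Type u) J K)] :
    (∀ X : Sh J, IsQC X → IsQC ((G.sheafPullback (Type u) J K).obj X)) ∧
      (∀ X : Sh J, IsQS X → IsQS ((G.sheafPullback (Type u) J K).obj X)) := by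
  have hS : ∀ X ∈ Set.range (eps J), IsCoherent X := by
    rintro _ ⟨U, rfl⟩
    exact isCoherent_eps J hC U
  have h : ∀ X ∈ Set.range (eps J), IsCoherent ((G.sheafPullback (Type u) J K).obj X) := by
    rintro _ ⟨U, rfl⟩
    exact isCoherent_of_iso (pullEpsIso J K G U).symm (isCoherent_eps K hD _)
  have hgen := isGenerating_range_eps J
  have adj := G.sheafAdjunctionContinuous (Type u) J K
  exact ⟨fun X hX => map_isQC_of_generators _ _ adj (fun X hX => (hS X hX).1) hgen
      (fun X hX => (h X hX).1) hX,
    fun X hX => map_isQS_of_generators _ _ adj (hasQCGenerators_of_qcSite K hD) hS hgen h hX⟩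


end Helper5.TFin
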