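import Groth.Agent.Lib.Helper5.TFin.Basic
import Mathlib.CategoryTheory.Limits.Shapes.Pullback.Mono
import Mathlib.CategoryTheory.Limits.Shapes.Pullback.Pasting

open CategoryTheory CategoryTheory.Limits Opposite

set_option linter.unusedSectionVars false

namespace Helper5.TFin

universe u w w'

variable {C : Type u} [SmallCategory C] {J : GrothendieckTopology C}

open ToposFin (Sh IsQC IsQCHom IsQSHom IsQS IsCohHom IsCoherent)

lemma isQCHom_iff {X Y : Sh J} (f : X ⟶ Y) : IsQCHom f ↔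
    ∀ ⦃Y' P : Sh J⦄ (g : Y' ⟶ Y) (p₁ : P ⟶ X) (p₂ : P ⟶ Y'), IsPullback p₁ p₂ f g →
      IsQC Y' → IsQC P := by
  constructor
  · intro h Y' P g p₁ p₂ sq hY'
    exact isQC_of_iso sq.isoPullback.symm (h Y' g hY')
  · intro h Y' g hY'
    exact h g _ _ (IsPullback.of_hasPullback f g) hY'

lemma isQC_of_isPullback {P X Y Y' : Sh J} {p₁ : P ⟶ X} {p₂ : P ⟶ Y'} {f : X ⟶ Y} {g : Y' ⟶ Y}
    (sq : IsPullback p₁ p₂ f g) (hf : IsQCHom f) (hY' : IsQC Y') : IsQC P :=
  (isQCHom_iff f).1 hf g p₁ p₂ sq hY'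

/-- base change -/
lemma isQCHom_of_isPullback {P X Y Y' : Sh J} {p₁ : P ⟶ X} {p₂ : P ⟶ Y'} {f : X ⟶ Y} {g : Y' ⟶ Y}
    (sq : IsPullback p₁ p₂ f g) (hf : IsQCHom f) : IsQCHom p₂ := by
  rw [isQCHom_iff]
  intro T Q t q₁ q₂ sq' hT
  exact isQC_of_isPullback (sq'.paste_horiz sq) hf hT

lemma isQCHom_of_isPullback' {P X Y Y' : Sh J} {p₁ : P ⟶ X} {p₂ : P ⟶ Y'} {f : X ⟶ Y}
    {g : Y' ⟶ Y} (sq : IsPullback p₁ p₂ f g) (hg : IsQCHom g) : IsQCHom p₁ :=
  isQCHom_of_isPullback sq.flip hg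

lemma isQCHom_comp {X Y Z : Sh J} (f : X ⟶ Y) (g : Y ⟶ Z) (hf : IsQCHom f) (hg : IsQCHom g) :
    IsQCHom (f ≫ g) := by
  rw [isQCHom_iff]
  intro T Q t q₁ q₂ sq hT
  -- Q = X ×_Z T; let P = Y ×_Z T
  have sqP := IsPullback.of_hasPullback g t
  have hP : IsQC (pullback g t) := isQC_of_isPullback sqP hg hT
  -- the map Q ⟶ P
  let m : Q ⟶ pullback g t := pullback.lift (q₁ ≫ f) q₂ (by rw [Category.assoc, sq.w])
  have sq2 : IsPullback q₁ m f (pullback.fst g t) := by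
    apply IsPullback.of_bot _ (pullback.lift_fst _ _ _).symm sqP
    have : m ≫ pullback.snd g t = q₂ := pullback.lift_snd _ _ _
    rw [this]
    exact sq
  exact isQC_of_isPullback sq2 hf hP

lemma isQCHom_of_isIso {X Y : Sh J} (f : X ⟶ Y) [IsIso f] : IsQCHom f := by
  intro T t hT
  exact isQC_of_iso (asIso (pullback.snd f t)).symm hT

lemma isQC_of_isQCHom {X Y : Sh J} (f : X ⟶ Y) (hf : IsQCHom f) (hY : IsQC Y) : IsQC X :=
  isQC_of_isPullback (IsPullback.id_horiz f) hf hY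

lemma isQCHom_of_iso_comp {X X' Y : Sh J} (e : X' ≅ X) (f : X ⟶ Y) (hf : IsQCHom f) :
    IsQCHom (e.hom ≫ f) :=
  isQCHom_comp _ _ (isQCHom_of_isIso e.hom) hf

/-- a morphism from a quasi-compact object to a quasi-separated object is quasi-compact -/
lemma isQCHom_of_isQC_of_isQS {X Y : Sh J} (f : X ⟶ Y) (hX : IsQC X) (hY : IsQS Y) :
    IsQCHom f := fun T t hT => hY X T f t hX hT

/-- cancelling a monomorphism on the right -/
lemma isQCHom_of_comp_mono {A B B' : Sh J} (u : A ⟶ B) (j : B ⟶ B') [Mono j]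
    (h : IsQCHom (u ≫ j)) : IsQCHom u := by
  rw [isQCHom_iff]
  intro T P t p₁ p₂ sq hT
  have sq' : IsPullback p₁ p₂ (u ≫ j) (t ≫ j) := by
    refine ⟨⟨by rw [← Category.assoc, sq.w, Category.assoc]⟩, ⟨PullbackCone.IsLimit.mk _
      (fun s => sq.lift s.fst s.snd ?_) (fun s => sq.lift_fst _ _ _) (fun s => sq.lift_snd _ _ _)
      (fun s m h₁ h₂ => sq.hom_ext (by simpa using h₁) (by simpa using h₂))⟩⟩
    rw [← cancel_mono j, Category.assoc, Category.assoc]
    exact s.condition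
  exact isQC_of_isPullback sq' h hT

lemma isQSHom_of_mono {X Y : Sh J} (u : X ⟶ Y) [Mono u] : IsQSHom u :=
  isQCHom_of_isIso (pullback.diagonal u)

lemma isQSHom_of_comp {X Y Z : Sh J} (f : X ⟶ Y) (g : Y ⟶ Z) (h : IsQSHom (f ≫ g)) :
    IsQSHom f := by
  have sq := pullback_map_diagonal_isPullback f f g
  have hm : Mono (pullback.map f f (f ≫ g) (f ≫ g) (𝟙 X) (𝟙 X) g (Category.id_comp _).symm
      (Category.id_comp _).symm) := sq.mono_snd_of_mono
  have hd : pullback.diagonal f ≫ pullback.map f f (f ≫ g) (f ≫ g) (𝟙 X) (𝟙 X) g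
      (Category.id_comp _).symm (Category.id_comp _).symm = pullback.diagonal (f ≫ g) := by
    apply pullback.hom_ext
    · rw [Category.assoc, pullback.lift_fst, pullback.diagonal_fst, ← Category.assoc,
        pullback.diagonal_fst, Category.id_comp]
    · rw [Category.assoc, pullback.lift_snd, pullback.diagonal_snd, ← Category.assoc,
        pullback.diagonal_snd, Category.id_comp]
  have h' : IsQCHom (pullback.diagonal f ≫ pullback.map f f (f ≫ g) (f ≫ g) (𝟙 X) (𝟙 X) g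
      (Category.id_comp _).symm (Category.id_comp _).symm) := by
    rw [hd]
    exact h
  exact isQCHom_of_comp_mono (pullback.diagonal f) _ h'

lemma isQS_of_isQSHom {X Y : Sh J} (f : X ⟶ Y) (hf : IsQSHom f) (hY : IsQS Y) : IsQS X := by
  intro A B a b hA hB
  exact isQC_of_isPullback (pullback_map_diagonal_isPullback a b f) hf
    (hY A B (a ≫ f) (b ≫ f) hA hB)

lemma isQCHom_of_comp_of_isQSHom {X Y Z : Sh J} (f : X ⟶ Y) (g : Y ⟶ Z) (hg : IsQSHom g)
    (h : IsQCHom (f ≫ g)) : IsQCHom f := by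
  have sq := pullback_lift_diagonal_isPullback f g
  have h1 : IsQCHom (pullback.lift (𝟙 X) f (by simp) : X ⟶ pullback (f ≫ g) g) :=
    isQCHom_of_isPullback sq hg
  have h2 : IsQCHom (pullback.snd (f ≫ g) g) :=
    isQCHom_of_isPullback (IsPullback.of_hasPullback (f ≫ g) g) h
  have h3 := isQCHom_comp _ _ h1 h2
  rwa [pullback.lift_snd] at h3

lemma isCohHom_of_comp_of_isQSHom {X Y Z : Sh J} (f : X ⟶ Y) (g : Y ⟶ Z) (hg : IsQSHom g)
    (h : IsCohHom (f ≫ g)) : IsCohHom f :=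
  ⟨isQCHom_of_comp_of_isQSHom f g hg h.1, isQSHom_of_comp f g h.2⟩

lemma isQCHom_of_finite_JE {κ : Type w} [Finite κ] {Y Z : Sh J} (g : Y ⟶ Z) {X : κ → Sh J}
    (f : ∀ k, X k ⟶ Y) (hf : JE f) (h : ∀ k, IsQCHom (f k ≫ g)) : IsQCHom g := by
  intro T t hT
  have h1 : JE (fun k => pullback.snd (f k) (pullback.fst g t)) := hf.pullback' _
  refine isQC_of_finite_JE _ h1 (fun k => ?_)
  have sq := (IsPullback.of_hasPullback (f k) (pullback.fst g t)).paste_vert
    (IsPullback.of_hasPullback g t)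
  exact isQC_of_isPullback sq (h k) hT

end Helper5.TFin
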