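import Groth.Agent.Lib.Helper5.TFin.Loc

open CategoryTheory CategoryTheory.Limits Opposite

set_option linter.unusedSectionVars false

namespace Helper5.TFin

universe u w w'

variable {C : Type u} [SmallCategory C] {J : GrothendieckTopology C}

open ToposFin (Sh IsQC IsQCHom IsQSHom IsQS IsCohHom IsCoherent HasQCGenerators)

lemma isQC_pullback_symm {A B Y : Sh J} (a : A ⟶ Y) (b : B ⟶ Y) (h : IsQC (pullback a b)) :
    IsQC (pullback b a) :=
  isQC_of_iso (pullbackSymmetry a b) h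

lemma isQC_pullback_of_finite_cover_left {A B Y : Sh J} (a : A ⟶ Y) (b : B ⟶ Y) {κ : Type w}
    [Finite κ] {G : κ → Sh J} (ρ : ∀ k, G k ⟶ A) (hρ : JE ρ)
    (h : ∀ k, IsQC (pullback (ρ k ≫ a) b)) : IsQC (pullback a b) :=
  isQC_pullback_symm b a
    (isQC_pullback_of_finite_cover b a ρ hρ (fun k => isQC_pullback_symm _ _ (h k)))

/-- quasi-separatedness of objects can be tested on a generating family of quasi-compacts -/
theorem isQS_iff_of_generators {α : Type u} (G : α → Sh J) (hG : ∀ a, IsQC (G a))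
    (hgen : ∀ X : Sh J, ∃ (ι : Type u) (a : ι → α) (π : ∀ i, G (a i) ⟶ X), Epi (Sigma.desc π))
    (Y : Sh J) : IsQS Y ↔ ∀ (a : α) (s : G a ⟶ Y), IsQCHom s := by
  constructor
  · intro hY a s
    exact isQCHom_of_isQC_of_isQS s (hG a) hY
  · intro h A B a b hA hB
    obtain ⟨ι, c, π, hπ⟩ := hgen A
    rw [epi_sigmaDesc_iff] at hπ
    obtain ⟨s₀, hs₀⟩ := exists_finset_of_isQC hA π hπ
    exact isQC_pullback_of_finite_cover_left a b (fun i : s₀ => π i) hs₀
      (fun i => h _ (π i ≫ a) B b hB)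

/-- an object covered by quasi-separated objects along quasi-compact morphisms is
quasi-separated -/
theorem isQS_of_cover (hE : HasQCGenerators J) {Y : Sh J} {ι : Type u} (Yi : ι → Sh J)
    (g : ∀ i, Yi i ⟶ Y) (hg : JE g) (hqs : ∀ i, IsQS (Yi i)) (hqc : ∀ i, IsQCHom (g i)) :
    IsQS Y := by
  intro A B a b hA hB
  have h1 : JE (fun i => pullback.snd (g i) a) := hg.pullback' a
  obtain ⟨κ, G, σ, ρ, hG, hρ⟩ := exists_qc_refinement hE _ h1
  obtain ⟨s₀, hs₀⟩ := exists_finset_of_isQC hA _ hρ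
  refine isQC_pullback_of_finite_cover_left a b
    (fun k : s₀ => ρ k ≫ pullback.snd (g (σ k)) a) hs₀ (fun k => ?_)
  have hfac : (ρ k ≫ pullback.snd (g (σ k)) a) ≫ a =
      (ρ k ≫ pullback.fst (g (σ k)) a) ≫ g (σ k) := by
    rw [Category.assoc, Category.assoc, pullback.condition]
  refine isQC_of_iso (pullback.congrHom hfac (rfl : b = b)).symm ?_
  -- `B_i = Y_i ×_Y B` is quasi-compact
  have hBi : IsQC (pullback (g (σ k)) b) := hqc (σ k) B b hB
  have hQ : IsQC (pullback (ρ k ≫ pullback.fst (g (σ k)) a) (pullback.fst (g (σ k)) b)) :=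
    hqs (σ k) _ _ _ _ (hG k) hBi
  have sq := ((IsPullback.of_hasPullback (ρ k ≫ pullback.fst (g (σ k)) a)
    (pullback.fst (g (σ k)) b)).flip.paste_horiz (IsPullback.of_hasPullback (g (σ k)) b).flip).flip
  exact isQC_of_iso sq.isoPullback hQ

theorem isQS_iff_of_coherent_cover (hE : HasQCGenerators J) {Y : Sh J} {ι : Type u}
    (Yi : ι → Sh J) (g : ∀ i, Yi i ⟶ Y) (hg : JE g) (hY : ∀ i, IsCoherent (Yi i)) :
    (IsQS Y ↔ ∀ i, IsQCHom (g i)) ∧ (IsQS Y ↔ ∀ i j, IsQC (pullback (g i) (g j))) := by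
  have h1 : IsQS Y ↔ ∀ i, IsQCHom (g i) := by
    constructor
    · intro h i
      exact isQCHom_of_isQC_of_isQS (g i) (hY i).1 h
    · intro h
      exact isQS_of_cover hE Yi g hg (fun i => (hY i).2) h
  refine ⟨h1, ?_⟩
  constructor
  · intro h i j
    exact h _ _ _ _ (hY i).1 (hY j).1
  · intro h
    rw [h1]
    intro i
    rw [isQCHom_iff_of_cover hE (g i) Yi g hg]
    intro j
    exact isQCHom_of_isQC_of_isQS _ (h i j) (hY j).2

/-- the criterion for quasi-separatedness of a morphism via the diagonal and a cover of the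
source: it suffices that the maps `X_i ×_X X_j ⟶ X_i ×_Y X_j` are quasi-compact -/
lemma isQSHom_of_cover_diag (hE : HasQCGenerators J) {X Y : Sh J} (f : X ⟶ Y) {ι : Type u}
    (Xi : ι → Sh J) (g : ∀ i, Xi i ⟶ X) (hg : JE g)
    (h : ∀ i j, IsQCHom (pullback.map (g i) (g j) (g i ≫ f) (g j ≫ f) (𝟙 _) (𝟙 _) f
      (Category.id_comp _).symm (Category.id_comp _).symm)) : IsQSHom f := by
  have hcov := hg.pullback_map hg f f
  change IsQCHom (pullback.diagonal f)
  rw [isQCHom_iff_of_cover hE (pullback.diagonal f) _ _ hcov]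
  rintro ⟨i, j⟩
  have sqd := pullback_map_diagonal_isPullback (g i) (g j) f
  have he : sqd.isoPullback.inv ≫ pullback.map (g i) (g j) (g i ≫ f) (g j ≫ f) (𝟙 _) (𝟙 _) f
      (Category.id_comp _).symm (Category.id_comp _).symm =
      pullback.snd (pullback.diagonal f) _ := by
    rw [Iso.inv_comp_eq]
    exact (sqd.isoPullback_hom_snd).symm
  rw [← he]
  exact isQCHom_comp _ _ (isQCHom_of_isIso sqd.isoPullback.inv) (h i j)

theorem isQSHom_of_cover_with_qs_products (hE : HasQCGenerators J) {X Y : Sh J} (f : X ⟶ Y)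
    {ι : Type u} (Xi : ι → Sh J) (g : ∀ i, Xi i ⟶ X) (hg : JE g) (hqc : ∀ i, IsQC (Xi i))
    (hqs : ∀ i j, IsQS (pullback (g i ≫ f) (g j ≫ f))) (hX : IsQS X) : IsQSHom f := by
  apply isQSHom_of_cover_diag hE f Xi g hg
  intro i j
  exact isQCHom_of_isQC_of_isQS _ (hX _ _ _ _ (hqc i) (hqc j)) (hqs i j)

theorem isQSHom_of_cover_of_source (hE : HasQCGenerators J) {Y Z : Sh J} (g : Y ⟶ Z) {ι : Type u}
    (X : ι → Sh J) (f : ∀ i, X i ⟶ Y) (hf : JE f) (hqc : ∀ i, IsQCHom (f i))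
    (hqs : ∀ i, IsQSHom (f i ≫ g)) : IsQSHom g := by
  apply isQSHom_of_cover_diag hE g X f hf
  intro i j
  -- `q : X_i ×_Z X_j ⟶ X_j` is quasi-separated, and the composite with it is quasi-compact
  have hq : IsQSHom (pullback.snd (f i ≫ g) (f j ≫ g)) :=
    isQSHom_of_isPullback (IsPullback.of_hasPullback (f i ≫ g) (f j ≫ g)) (hqs i)
  apply isQCHom_of_comp_of_isQSHom _ _ hq
  rw [pullback.lift_snd, Category.comp_id]
  exact isQCHom_of_isPullback (IsPullback.of_hasPullback (f i) (f j)) (hqc i)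

theorem isCohHom_of_finite_cover_of_source (hE : HasQCGenerators J) {Y Z : Sh J} (g : Y ⟶ Z)
    {n : ℕ} (X : Fin n → Sh J) (f : ∀ k, X k ⟶ Y) (hf : JE f) (hqc : ∀ k, IsQCHom (f k))
    (hcoh : ∀ k, IsCohHom (f k ≫ g)) : IsCohHom g := by
  refine ⟨isQCHom_of_finite_JE g f hf (fun k => (hcoh k).1), ?_⟩
  have hf' : JE (fun k : ULift.{u} (Fin n) => f k.down) :=
    hf.reindex ULift.down ULift.down_surjective
  exact isQSHom_of_cover_of_source hE g (fun k : ULift.{u} (Fin n) => X k.down)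
    (fun k => f k.down) hf' (fun k => hqc k.down) (fun k => (hcoh k.down).2)

end Helper5.TFin
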