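import Groth.Agent.Lib.Helper5.TFin.Geom
import Mathlib.CategoryTheory.Sites.LocallySurjective
import Mathlib.CategoryTheory.Sites.LocallyInjective
import Mathlib.CategoryTheory.Limits.Yoneda
import Mathlib.CategoryTheory.Limits.FunctorCategory.Basic

open CategoryTheory CategoryTheory.Limits Opposite

set_option linter.unusedSectionVars false

namespace Helper5.TFin

universe u w w'

open ToposFin (Sh IsQC IsQCHom IsQSHom IsQS IsCohHom IsCoherent HasQCGenerators IsGenerating
  ClosedUnderPullbacks ClosedUnderEqualizers IsAlgebraic eps IsQCSite)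

variable {C : Type u} [SmallCategory C] (J : GrothendieckTopology C)

/-- the canonical section of `eps X` over `X` -/
noncomputable def etaSec (X : C) : (eps J X).obj.obj (op X) :=
  (toSheafify J (yoneda.obj X)).app (op X) (𝟙 X)

lemma toSheafify_app_eq (X : C) {W : C} (x : W ⟶ X) :
    (toSheafify J (yoneda.obj X)).app (op W) x = (eps J X).obj.map x.op (etaSec J X) := by
  have h := NatTrans.naturality_apply (toSheafify J (yoneda.obj X)) x.op (𝟙 X)
  rw [etaSec, ← h]
  congr 1
  simp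

lemma map_comp_sec (F : Sh J) {U V W : C} (f : V ⟶ U) (g : W ⟶ V) (s : F.obj.obj (op U)) :
    F.obj.map (g ≫ f).op s = F.obj.map g.op (F.obj.map f.op s) := by
  rw [op_comp, F.obj.map_comp]
  rfl

lemma hom_map_sec {F G : Sh J} (φ : F ⟶ G) {U V : C} (f : V ⟶ U) (s : F.obj.obj (op U)) :
    φ.hom.app (op V) (F.obj.map f.op s) = G.obj.map f.op (φ.hom.app (op U) s) :=
  NatTrans.naturality_apply φ.hom f.op s

/-- every section of `eps X` is locally representable -/
lemma eps_locally_rep (X : C) {U : C} (σ : (eps J X).obj.obj (op U)) :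
    ∃ R ∈ J U, ∀ ⦃W : C⦄ (h : W ⟶ U), R h →
      ∃ x : W ⟶ X, (eps J X).obj.map h.op σ = (eps J X).obj.map x.op (etaSec J X) := by
  refine ⟨Presheaf.imageSieve (toSheafify J (yoneda.obj X)) σ,
    Presheaf.imageSieve_mem J (toSheafify J (yoneda.obj X)) σ, ?_⟩
  rintro W h ⟨x, hx⟩
  exact ⟨x, by rw [← toSheafify_app_eq]; exact hx.symm⟩

/-- representable sections which agree do so locally on the site -/
lemma eps_locally_inj (X : C) {W : C} (x y : W ⟶ X)
    (h : (eps J X).obj.map x.op (etaSec J X) = (eps J X).obj.map y.op (etaSec J X)) :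
    ∃ R ∈ J W, ∀ ⦃W' : C⦄ (w : W' ⟶ W), R w → w ≫ x = w ≫ y := by
  refine ⟨Presheaf.equalizerSieve (F := yoneda.obj X) (X := op W) x y,
    Presheaf.equalizerSieve_mem J (toSheafify J (yoneda.obj X)) (X := op W) x y ?_, ?_⟩
  · rw [toSheafify_app_eq, toSheafify_app_eq, h]
  · intro W' w hw
    exact hw

/-- the morphism `eps U ⟶ F` attached to a section -/
noncomputable def secHom (F : Sh J) {U : C} (s : F.obj.obj (op U)) : eps J U ⟶ F :=
  ⟨sheafifyLift J (yonedaEquiv.symm s) F.2⟩

lemma secHom_eta (F : Sh J) {U : C} (s : F.obj.obj (op U)) :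
    (secHom J F s).hom.app (op U) (etaSec J U) = s := by
  have h := toSheafify_sheafifyLift J (yonedaEquiv.symm s) F.2
  have h2 := congrArg yonedaEquiv h
  rw [Equiv.apply_symm_apply, yonedaEquiv_comp] at h2
  exact h2

/-- `eps` on morphisms -/
noncomputable def epsMap {V X : C} (g : V ⟶ X) : eps J V ⟶ eps J X :=
  secHom J (eps J X) ((eps J X).obj.map g.op (etaSec J X))

lemma epsMap_eta {V X : C} (g : V ⟶ X) :
    (epsMap J g).hom.app (op V) (etaSec J V) = (eps J X).obj.map g.op (etaSec J X) :=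
  secHom_eta J _ _

/-- the morphisms attached to all sections are jointly epimorphic -/
lemma je_secHom (F : Sh J) :
    JE (fun p : Σ U : C, F.obj.obj (op U) => secHom J F p.2) := by
  rw [je_iff_jls]
  intro U s
  refine J.superset_covering ?_ (J.top_mem U)
  intro V f _
  refine ⟨⟨U, s⟩, (eps J U).obj.map f.op (etaSec J U), ?_⟩
  rw [hom_map_sec, secHom_eta]

/-- a covering family of the site gives a jointly epimorphic family of the topos -/
lemma je_epsMap_of_covering {X : C} (S : Sieve X) (hS : S ∈ J X) :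
    JE (fun p : Σ V : C, {g : V ⟶ X // S g} => epsMap J p.2.1) := by
  rw [je_iff_jls]
  intro U σ
  obtain ⟨R, hR, hRx⟩ := eps_locally_rep J X σ
  refine J.transitive hR _ (fun W h hh => ?_)
  obtain ⟨x, hx⟩ := hRx h hh
  refine J.superset_covering ?_ (J.pullback_stable x hS)
  intro W' w hw
  refine ⟨⟨W', w ≫ x, hw⟩, etaSec J W', ?_⟩
  rw [epsMap_eta, map_comp_sec, map_comp_sec, hx]

theorem isQC_eps_of_isQCSite {X : C} (h : IsQCSite J X) : IsQC (eps J X) := by
  classical
  rw [isQC_iff]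
  intro ι F π hπ
  have hJ := (je_iff_jls π).1 hπ X (etaSec J X)
  obtain ⟨n, V, g, hg, hcov⟩ := h _ hJ
  choose i t ht using hg
  refine ⟨Finset.univ.image i, ?_⟩
  rw [je_iff_jls]
  intro U σ
  obtain ⟨R, hR, hRx⟩ := eps_locally_rep J X σ
  refine J.transitive hR _ (fun W h hh => ?_)
  obtain ⟨x, hx⟩ := hRx h hh
  refine J.superset_covering ?_ (J.pullback_stable x hcov)
  intro W' w hw
  obtain ⟨k, a, ha⟩ := (Sieve.mem_ofArrows_iff V g (w ≫ x)).1 hw
  refine ⟨⟨i k, Finset.mem_image_of_mem i (Finset.mem_univ k)⟩, (F (i k)).obj.map a.op (t k), ?_⟩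
  change (π (i k)).hom.app (op W') ((F (i k)).obj.map a.op (t k)) = _
  rw [hom_map_sec, ht, ← map_comp_sec, ← ha, map_comp_sec, map_comp_sec, hx]

theorem isQCSite_of_isQC_eps {X : C} (h : IsQC (eps J X)) : IsQCSite J X := by
  classical
  intro S hS
  obtain ⟨s, hs⟩ := exists_finset_of_isQC h _ (je_epsMap_of_covering J S hS)
  refine ⟨s.card, fun k => (s.equivFin.symm k).1.1, fun k => (s.equivFin.symm k).1.2.1,
    fun k => (s.equivFin.symm k).1.2.2, ?_⟩
  have hL := (je_iff_jls _).1 hs X (etaSec J X)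
  refine J.transitive hL _ (fun V' f hf => ?_)
  obtain ⟨p, t, ht⟩ := hf
  obtain ⟨R', hR', hRy⟩ := eps_locally_rep J p.1.1 t
  refine J.transitive hR' _ (fun W v hv => ?_)
  obtain ⟨y, hy⟩ := hRy v hv
  have heq : (eps J X).obj.map (v ≫ f).op (etaSec J X) =
      (eps J X).obj.map (y ≫ p.1.2.1).op (etaSec J X) := by
    rw [map_comp_sec, ← ht, ← hom_map_sec, hy, hom_map_sec, epsMap_eta, ← map_comp_sec]
  obtain ⟨R'', hR'', hRw⟩ := eps_locally_inj J X _ _ heq
  refine J.superset_covering ?_ hR''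
  intro W' w hw
  change Sieve.ofArrows _ _ ((w ≫ v) ≫ f)
  rw [Category.assoc, hRw w hw, Sieve.mem_ofArrows_iff]
  refine ⟨s.equivFin p, w ≫ y ≫ eqToHom (by rw [Equiv.symm_apply_apply]), ?_⟩
  have : ∀ (q : s) (hq : q = p), (y ≫ eqToHom (by rw [hq]) : W ⟶ q.1.1) ≫ q.1.2.1 = y ≫ p.1.2.1 := by
    rintro q rfl
    simp
  rw [Category.assoc, Category.assoc]
  congr 1
  rw [← Category.assoc]
  exact (this _ (Equiv.symm_apply_apply _ _)).symm


/-- morphisms out of `eps U` are determined by the image of the canonical section -/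
lemma eps_hom_ext {U : C} {F : Sh J} (φ ψ : eps J U ⟶ F)
    (h : φ.hom.app (op U) (etaSec J U) = ψ.hom.app (op U) (etaSec J U)) : φ = ψ := by
  apply Sheaf.hom_ext
  apply sheafify_hom_ext _ _ _ F.2
  apply yonedaEquiv.injective
  rw [yonedaEquiv_comp, yonedaEquiv_comp]
  exact h

lemma secHom_eq {U : C} {F : Sh J} (φ : eps J U ⟶ F) :
    secHom J F (φ.hom.app (op U) (etaSec J U)) = φ :=
  eps_hom_ext J _ _ (secHom_eta J F _)

lemma epsMap_comp_secHom {V U : C} (g : V ⟶ U) {F : Sh J} (s : F.obj.obj (op U)) :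
    epsMap J g ≫ secHom J F s = secHom J F (F.obj.map g.op s) := by
  apply eps_hom_ext
  rw [sec_comp, epsMap_eta, hom_map_sec, secHom_eta, secHom_eta]

lemma epsMap_comp {W V U : C} (a : W ⟶ V) (g : V ⟶ U) :
    epsMap J (a ≫ g) = epsMap J a ≫ epsMap J g := by
  have h : epsMap J g = secHom J (eps J U) ((eps J U).obj.map g.op (etaSec J U)) := rfl
  rw [h, epsMap_comp_secHom, ← map_comp_sec]
  rfl

lemma epsMap_eq_map {V X : C} (g : V ⟶ X) :
    epsMap J g = (yoneda ⋙ presheafToSheaf J (Type u)).map g := by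
  apply eps_hom_ext
  rw [epsMap_eta]
  have h := toSheafify_naturality J (yoneda.map g)
  have h2 := congrArg yonedaEquiv h
  rw [yonedaEquiv_comp, yonedaEquiv_comp, yonedaEquiv_yoneda_map] at h2
  rw [← toSheafify_app_eq]
  exact h2

/-- a covering family of arrows gives a jointly epimorphic family -/
lemma je_epsMap_ofArrows {X : C} {ι : Type w} (V : ι → C) (g : ∀ i, V i ⟶ X)
    (h : Sieve.ofArrows V g ∈ J X) : JE (fun i => epsMap J (g i)) := by
  have h1 := je_epsMap_of_covering J _ h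
  have hex : ∀ p : Σ W : C, {f : W ⟶ X // Sieve.ofArrows V g f},
      ∃ (i : ι) (a : p.1 ⟶ V i), p.2.1 = a ≫ g i := fun p =>
    (Sieve.mem_ofArrows_iff V g p.2.1).1 p.2.2
  choose i a ha using hex
  refine h1.of_factor _ i (fun p => epsMap J (a p)) (fun p => ?_)
  rw [← epsMap_comp, ← ha]

lemma hasQCGenerators_of_qcSite (hC : ∀ X : C, IsQCSite J X) : HasQCGenerators J := by
  rw [hasQCGenerators_iff]
  intro F
  exact ⟨Σ U : C, F.obj.obj (op U), fun p => eps J p.1, fun p => secHom J F p.2,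
    fun p => isQC_eps_of_isQCSite J (hC p.1), je_secHom J F⟩

lemma eps_gen (F : Sh J) : ∃ (ι : Type u) (a : ι → C) (π : ∀ i, eps J (a i) ⟶ F),
    Epi (Sigma.desc π) :=
  ⟨Σ U : C, F.obj.obj (op U), fun p => p.1, fun p => secHom J F p.2,
    (epi_sigmaDesc_iff _).2 (je_secHom J F)⟩


section Pb

variable [HasPullbacks C]

lemma isPullback_epsMap {V V' X : C} (g : V ⟶ X) (g' : V' ⟶ X) :
    IsPullback (epsMap J (pullback.fst g g')) (epsMap J (pullback.snd g g')) (epsMap J g)
      (epsMap J g') := by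
  simp only [epsMap_eq_map]
  exact (IsPullback.of_hasPullback g g').map (yoneda ⋙ presheafToSheaf J (Type u))

lemma exists_finite_rep_cover {U X : C} (hU : IsQCSite J U) (φ : eps J U ⟶ eps J X) :
    ∃ (n : ℕ) (V : Fin n → C) (h : ∀ k, V k ⟶ U) (x : ∀ k, V k ⟶ X),
      Sieve.ofArrows V h ∈ J U ∧ ∀ k, epsMap J (h k) ≫ φ = epsMap J (x k) := by
  obtain ⟨R, hR, hRx⟩ := eps_locally_rep J X (φ.hom.app (op U) (etaSec J U))
  obtain ⟨n, V, h, hV, hcov⟩ := hU R hR
  choose x hx using fun k => hRx (h k) (hV k)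
  refine ⟨n, V, h, x, hcov, fun k => ?_⟩
  apply eps_hom_ext
  rw [sec_comp, epsMap_eta, hom_map_sec, hx k, epsMap_eta]

variable (hC : ∀ X : C, IsQCSite J X)

include hC in
theorem isQC_pullback_eps {U V X : C} (φ : eps J U ⟶ eps J X) (ψ : eps J V ⟶ eps J X) :
    IsQC (pullback φ ψ) := by
  obtain ⟨n, Uk, h, x, hcov, hx⟩ := exists_finite_rep_cover J (hC U) φ
  obtain ⟨m, Vl, h', y, hcov', hy⟩ := exists_finite_rep_cover J (hC V) ψ
  have hje := (je_epsMap_ofArrows J Uk h hcov).pullback_map (je_epsMap_ofArrows J Vl h' hcov') φ ψ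
  refine isQC_of_finite_JE _ hje (fun p => ?_)
  refine isQC_of_iso (pullback.congrHom (hx p.1).symm (hy p.2).symm) ?_
  exact isQC_of_iso (isPullback_epsMap J (x p.1) (y p.2)).isoPullback
    (isQC_eps_of_isQCSite J (hC _))

include hC in
theorem isCoherent_eps (X : C) : IsCoherent (eps J X) := by
  have hqc : ∀ U : C, IsQC (eps J U) := fun U => isQC_eps_of_isQCSite J (hC U)
  refine ⟨hqc X, ?_⟩
  rw [isQS_iff_of_generators (eps J) hqc (eps_gen J)]
  intro U φ
  rw [isQCHom_iff_of_generators (eps J) hqc (eps_gen J)]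
  intro V ψ
  exact isQC_pullback_eps J hC φ ψ

include hC in
theorem isQS_pullback_eps {U V X : C} (φ : eps J U ⟶ eps J X) (ψ : eps J V ⟶ eps J X) :
    IsQS (pullback φ ψ) := by
  have hE := hasQCGenerators_of_qcSite J hC
  obtain ⟨n, Uk, h, x, hcov, hx⟩ := exists_finite_rep_cover J (hC U) φ
  obtain ⟨m, Vl, h', y, hcov', hy⟩ := exists_finite_rep_cover J (hC V) ψ
  have hje := (je_epsMap_ofArrows J Uk h hcov).pullback_map (je_epsMap_ofArrows J Vl h' hcov') φ ψ
  have hje' := hje.reindex (ULift.down : ULift.{u} (Fin n × Fin m) → _) ULift.down_surjective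
  refine isQS_of_cover hE _ _ hje' (fun p => ?_) (fun p => ?_)
  · have h1 : IsQS (eps J (pullback (x p.down.1) (y p.down.2))) := (isCoherent_eps J hC _).2
    have h2 : IsQS (pullback (epsMap J (x p.down.1)) (epsMap J (y p.down.2))) :=
      isQS_of_isQSHom (isPullback_epsMap J (x p.down.1) (y p.down.2)).isoPullback.inv
        (isQSHom_of_mono _) h1
    exact isQS_of_isQSHom (pullback.congrHom (hx p.down.1) (hy p.down.2)).hom
      (isQSHom_of_mono _) h2
  · exact (pullback_map_stable (epsMap J (h p.down.1)) (epsMap J (h' p.down.2)) φ ψ).1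
      (isQCHom_of_isQC_of_isQS _ (isQC_eps_of_isQCSite J (hC _)) (isCoherent_eps J hC _).2)
      (isQCHom_of_isQC_of_isQS _ (isQC_eps_of_isQCSite J (hC _)) (isCoherent_eps J hC _).2)

include hC in
theorem isQSHom_to_eps {X : C} {G : Sh J} (g : G ⟶ eps J X) (hG : IsQS G) : IsQSHom g := by
  have hE := hasQCGenerators_of_qcSite J hC
  exact isQSHom_of_cover_with_qs_products hE g
    (fun p : Σ U : C, G.obj.obj (op U) => eps J p.1) (fun p => secHom J G p.2) (je_secHom J G)
    (fun p => isQC_eps_of_isQCSite J (hC _)) (fun p q => isQS_pullback_eps J hC _ _) hG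

end Pb


end Helper5.TFin
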